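import Groth.Agent.PointBlowUp.Algebra
import Groth.Agent.BlowUpBasics.AtlasOf
import Groth.Agent.CohBase.TwoOpenH1

/-!
# The two charts of a point blow-up and the Čech vanishing they give
-/

set_option autoImplicit false
set_option backward.isDefEq.respectTransparency.types false
universe u

open CategoryTheory AlgebraicGeometry TopologicalSpace Opposite IsLocalRing
open Groth.BlowUpBasics (phi phi_restrict)
open Groth.PicAux (res)

namespace Groth.PointBlowUp

variable {A : Type u} [CommRing A] {X : Scheme.{u}}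

/-- Two affine opens glued as `Spec A[y/x]` and `Spec A[x/y]`. -/
structure TwoChart (b : X ⟶ Spec (CommRingCat.of A)) (x y : A) where
  U : X.Opens
  V : X.Opens
  hU : IsAffineOpen U
  hV : IsAffineOpen V
  cover : U ⊔ V = ⊤
  u : Γ(X, U)
  v : Γ(X, V)
  mul_u : phi b U y = u * phi b U x
  mul_v : phi b V x = v * phi b V y
  nzdU : phi b U x ∈ nonZeroDivisors Γ(X, U)
  basicOpen_le : X.basicOpen u ≤ V
  surjU : Function.Surjective (Polynomial.eval₂ (phi b U) u)
  surjV : Function.Surjective (Polynomial.eval₂ (phi b V) v)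

namespace TwoChart

variable {b : X ⟶ Spec (CommRingCat.of A)} {x y : A} (C : TwoChart b x y)

/-- Restriction from the first chart. -/
noncomputable def resU : Γ(X, C.U) →+* Γ(X, C.U ⊓ C.V) :=
  (X.presheaf.map (homOfLE (inf_le_left : C.U ⊓ C.V ≤ C.U)).op).hom

/-- Restriction from the second chart. -/
noncomputable def resV : Γ(X, C.V) →+* Γ(X, C.U ⊓ C.V) :=
  (X.presheaf.map (homOfLE (inf_le_right : C.U ⊓ C.V ≤ C.V)).op).hom

lemma resU_phi (c : A) : C.resU (phi b C.U c) = phi b (C.U ⊓ C.V) c :=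
  (RingHom.congr_fun (phi_restrict b inf_le_left) c).symm

lemma resV_phi (c : A) : C.resV (phi b C.V c) = phi b (C.U ⊓ C.V) c :=
  (RingHom.congr_fun (phi_restrict b inf_le_right) c).symm

lemma mul_eq_one : C.resU C.u * C.resV C.v = 1 := by
  have h0 : C.resU C.u * C.resV C.v * phi b (C.U ⊓ C.V) x = phi b (C.U ⊓ C.V) x := by
    have h1 := congrArg C.resU C.mul_u
    have h2 := congrArg C.resV C.mul_v
    rw [map_mul, C.resU_phi, C.resU_phi] at h1
    rw [map_mul, C.resV_phi, C.resV_phi, h1] at h2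
    linear_combination -h2
  refine TopCat.Presheaf.section_ext X.sheaf _ _ _ fun z hz => ?_
  letI : Algebra Γ(X, C.U) (X.presheaf.stalk z) := (X.presheaf.germ C.U z hz.1).hom.toAlgebra
  have := C.hU.isLocalization_stalk ⟨z, hz.1⟩
  have hnzd := IsLocalization.map_nonZeroDivisors_le (C.hU.primeIdealOf ⟨z, hz.1⟩).asIdeal.primeCompl
    (X.presheaf.stalk z) ⟨_, C.nzdU, rfl⟩
  have hx : X.presheaf.germ (C.U ⊓ C.V) z hz (phi b (C.U ⊓ C.V) x) =
      algebraMap Γ(X, C.U) (X.presheaf.stalk z) (phi b C.U x) := by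
    rw [← C.resU_phi]
    exact X.presheaf.germ_res_apply _ z hz _
  change X.presheaf.germ (C.U ⊓ C.V) z hz (C.resU C.u * C.resV C.v) = X.presheaf.germ (C.U ⊓ C.V) z hz 1
  refine (mul_cancel_right_mem_nonZeroDivisors hnzd).mp ?_
  have h3 := congrArg (X.presheaf.germ (C.U ⊓ C.V) z hz) h0
  rw [map_mul, hx] at h3
  rw [map_one, one_mul]
  exact h3

lemma inf_eq : C.U ⊓ C.V = X.basicOpen C.u := by
  refine le_antisymm (fun z hz => ?_) (le_inf (X.basicOpen_le _) C.basicOpen_le)
  rw [Scheme.mem_basicOpen X C.u z hz.1]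
  have h := congrArg (X.presheaf.germ (C.U ⊓ C.V) z hz) C.mul_eq_one
  rw [map_mul, map_one] at h
  have e : X.presheaf.germ (C.U ⊓ C.V) z hz (C.resU C.u) = X.presheaf.germ C.U z hz.1 C.u :=
    X.presheaf.germ_res_apply _ z hz _
  exact e ▸ IsUnit.of_mul_eq_one _ h

lemma isAffineOpen_inf : IsAffineOpen (C.U ⊓ C.V) := C.inf_eq ▸ C.hU.basicOpen C.u

/-- Every function on the overlap is a sum of functions on the two charts. -/
lemma exists_add (r : Γ(X, C.U ⊓ C.V)) : ∃ (p : Γ(X, C.U)) (q : Γ(X, C.V)),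
    r = C.resU p + C.resV q := by
  letI : Algebra Γ(X, C.U) Γ(X, C.U ⊓ C.V) := C.resU.toAlgebra
  have : IsLocalization.Away C.u Γ(X, C.U ⊓ C.V) :=
    C.hU.isLocalization_of_eq_basicOpen C.u (homOfLE inf_le_left) C.inf_eq
  let S : AddSubgroup Γ(X, C.U ⊓ C.V) := C.resU.toAddMonoidHom.range ⊔ C.resV.toAddMonoidHom.range
  suffices r ∈ S by
    obtain ⟨_, ⟨p, rfl⟩, _, ⟨q, rfl⟩, hpq⟩ := AddSubgroup.mem_sup.mp this
    exact ⟨p, q, hpq.symm⟩
  have hu : C.resU C.u * C.resV C.v = 1 := C.mul_eq_one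
  obtain ⟨⟨P, ⟨_, n, rfl⟩⟩, hP⟩ := IsLocalization.surj (Submonoid.powers C.u) r
  have hr : r = C.resU P * C.resV C.v ^ n := by
    change r * C.resU (C.u ^ n) = C.resU P at hP
    rw [← hP, map_pow, mul_assoc, ← mul_pow, hu, one_pow, mul_one]
  obtain ⟨g, hg⟩ := C.surjU P
  rw [hr, ← hg]
  clear hg hr hP P
  induction g using Polynomial.induction_on' with
  | add p q hp hq =>
    rw [Polynomial.eval₂_add, map_add, add_mul]
    exact add_mem hp hq
  | monomial i c =>
    rw [Polynomial.eval₂_monomial, map_mul, map_pow, C.resU_phi]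
    rcases le_total n i with hni | hin
    · refine AddSubgroup.mem_sup_left ⟨phi b C.U c * C.u ^ (i - n), ?_⟩
      change C.resU _ = _
      obtain ⟨k, rfl⟩ := Nat.exists_eq_add_of_le hni
      rw [map_mul, map_pow, C.resU_phi, Nat.add_sub_cancel_left, pow_add, mul_comm (C.resU C.u ^ n),
        ← mul_assoc, mul_assoc (_ * _), ← mul_pow, hu, one_pow, mul_one]
    · refine AddSubgroup.mem_sup_right ⟨phi b C.V c * C.v ^ (n - i), ?_⟩
      change C.resV _ = _
      obtain ⟨k, rfl⟩ := Nat.exists_eq_add_of_le hin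
      rw [map_mul, map_pow, C.resV_phi, Nat.add_sub_cancel_left, pow_add, ← mul_assoc,
        mul_assoc (phi b _ c), ← mul_pow, hu, one_pow, mul_one]

/-- Cohomology vanishes above degree one. -/
theorem hVanish_of_two_le (C : TwoChart b x y) (F : X.Modules) [F.IsQuasicoherent] {p : ℕ} (hp : 2 ≤ p) :
    Groth.CohBase.HVanish (X := X.toTopCat) (Groth.CohBase.abSheaf F) p (⊤ : X.Opens) := by
  obtain ⟨n, rfl⟩ := Nat.exists_eq_add_of_le hp
  rw [← C.cover, Nat.add_comm 2 n]
  exact Groth.CohBase.hVanish_sup (X := X.toTopCat)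
    (Groth.CohBase.hVanish_of_isAffineOpen F C.isAffineOpen_inf n)
    (Groth.CohBase.hVanish_of_isAffineOpen F C.hU (n + 1))
    (Groth.CohBase.hVanish_of_isAffineOpen F C.hV (n + 1))

/-- The first cohomology of a module spanned by its global sections vanishes. -/
theorem hVanish_one (C : TwoChart b x y) {F : X.Modules} [F.IsQuasicoherent]
    (h : Groth.Ega2Proj.SpansStalks F) :
    Groth.CohBase.HVanish (X := X.toTopCat) (Groth.CohBase.abSheaf F) 1 (⊤ : X.Opens) := by
  rw [← C.cover]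
  refine Groth.CohBase.hVanish_one_sup (X := X.toTopCat) (Groth.CohBase.hVanish_of_isAffineOpen F C.hU 0)
    (Groth.CohBase.hVanish_of_isAffineOpen F C.hV 0) ?_
  change ∀ t : Γ(F, C.U ⊓ C.V), ∃ (p : Γ(F, C.U)) (q : Γ(F, C.V)),
    t = res F inf_le_left p + res F inf_le_right q
  intro t
  suffices key : ∀ r : Γ(X, C.U ⊓ C.V), ∃ (p : Γ(F, C.U)) (q : Γ(F, C.V)),
      r • t = res F inf_le_left p + res F inf_le_right q by simpa using key 1
  have ht : t ∈ Submodule.span Γ(X, C.U ⊓ C.V) (Set.range (res F (le_top : C.U ⊓ C.V ≤ ⊤))) :=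
    (Groth.Ega2Proj.span_sections_eq_top h C.isAffineOpen_inf).ge Submodule.mem_top
  induction ht using Submodule.span_induction with
  | mem m hm =>
    obtain ⟨s, rfl⟩ := hm
    intro r
    obtain ⟨p, q, hpq⟩ := C.exists_add r
    refine ⟨p • res F le_top s, q • res F le_top s, ?_⟩
    rw [hpq, add_smul, Groth.PicAux.res_smul, Groth.PicAux.res_smul, Groth.PicAux.res_res,
      Groth.PicAux.res_res]
    rfl
  | zero =>
    exact fun r => ⟨0, 0, by rw [Groth.PicAux.res_zero, Groth.PicAux.res_zero, smul_zero, add_zero]⟩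
  | add m m' _ _ hm hm' =>
    intro r
    obtain ⟨p, q, h₁⟩ := hm r
    obtain ⟨p', q', h₂⟩ := hm' r
    exact ⟨p + p', q + q', by rw [smul_add, h₁, h₂, Groth.PicAux.res_add, Groth.PicAux.res_add]; abel⟩
  | smul r' m _ hm =>
    intro r
    rw [smul_smul]
    exact hm (r * r')

end TwoChart

end Groth.PointBlowUp

namespace Groth.PointBlowUp

open Groth.BlowUpBasics

variable {A : Type u} [CommRing A] {I : Ideal A} {X : Scheme.{u}} {b : X ⟶ Spec (CommRingCat.of A)}
  (T : Atlas I b) (a : I)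

/-- The affine open of a chart. -/
noncomputable abbrev chartOpen : X.Opens := (T.j a) ''ᵁ ⊤

/-- The functions on a chart. -/
noncomputable def chartHom : BlowUp.affineAlgebra A I (a : A) →+* Γ(X, chartOpen T a) :=
  ((T.j a).appIso ⊤).inv.hom.comp (Scheme.ΓSpecIso (CommRingCat.of (BlowUp.affineAlgebra A I (a : A)))).inv.hom

lemma chartHom_bijective : Function.Bijective (chartHom T a) :=
  ((Scheme.ΓSpecIso (CommRingCat.of (BlowUp.affineAlgebra A I (a : A)))).symm ≪≫
    ((T.j a).appIso ⊤).symm).commRingCatIsoToRingEquiv.bijective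

lemma phi_chartOpen : phi b (chartOpen T a) = (chartHom T a).comp (algebraMap A _) := by
  rw [chartHom, RingHom.comp_assoc, ← phi_Spec,
    show Spec.map (CommRingCat.ofHom (algebraMap A (BlowUp.affineAlgebra A I (a : A)))) = T.j a ≫ b
      from (T.fac a).symm]
  simp only [phi]
  rw [← Scheme.Hom.appLE_comp_appLE (T.j a) b ⊤ (chartOpen T a) ⊤ (le_preimage_top b _)
    ((T.j a).preimage_image_eq ⊤).ge, ← CommRingCat.hom_comp, Category.assoc, Category.assoc,
    ← Scheme.Hom.appIso_hom', Iso.hom_inv_id, Category.comp_id]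

lemma basicOpen_chartHom_le (c : I) :
    X.basicOpen (chartHom T a (frac I (a : A) (c : A) c.2)) ≤ chartOpen T c := by
  rintro z hz
  change z ∈ X.basicOpen (((T.j a).appIso ⊤).inv
    ((Scheme.ΓSpecIso (CommRingCat.of (BlowUp.affineAlgebra A I (a : A)))).inv _)) at hz
  rw [← Scheme.image_basicOpen, basicOpen_eq_of_affine] at hz
  obtain ⟨w, hw, rfl⟩ := hz
  obtain ⟨w', hw'⟩ := T.overlap c a w hw
  exact ⟨w', trivial, hw'⟩

/-- The charts at generators of the ideal cover. -/
lemma sup_chartOpen_eq_top (T : Atlas I b) {x y : A} (hI : I = Ideal.span {x, y}) (hx : x ∈ I) (hy : y ∈ I) :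
    chartOpen T ⟨x, hx⟩ ⊔ chartOpen T ⟨y, hy⟩ = ⊤ := by
  refine top_le_iff.mp fun z _ => ?_
  obtain ⟨⟨c, hc⟩, w, rfl⟩ := T.covers z
  obtain ⟨r, s, hrs⟩ := Ideal.mem_span_pair.mp (hI.le hc)
  have hnzd : algebraMap A (BlowUp.affineAlgebra A I c) c ∈ nonZeroDivisors (BlowUp.affineAlgebra A I c) :=
    algebraMap_self_mem_nonZeroDivisors
  have h1 : algebraMap A (BlowUp.affineAlgebra A I c) r * frac I c x hx +
      algebraMap A (BlowUp.affineAlgebra A I c) s * frac I c y hy = 1 := by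
    refine (mul_cancel_right_mem_nonZeroDivisors hnzd).mp ?_
    rw [add_mul, mul_assoc, mul_assoc, frac_mul_algebraMap, frac_mul_algebraMap, ← map_mul, ← map_mul,
      ← map_add, hrs, one_mul]
  by_cases hw : frac I c x hx ∈ w.asIdeal
  · have hw' : frac I c y hy ∉ w.asIdeal := fun h2 => w.isPrime.ne_top ((Ideal.eq_top_iff_one w.asIdeal).mpr
      (h1 ▸ add_mem (Ideal.mul_mem_left w.asIdeal _ hw) (Ideal.mul_mem_left w.asIdeal _ h2)))
    obtain ⟨w', h'⟩ := T.overlap ⟨y, hy⟩ ⟨c, hc⟩ w hw'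
    exact Or.inr ⟨w', trivial, h'⟩
  · obtain ⟨w', h'⟩ := T.overlap ⟨x, hx⟩ ⟨c, hc⟩ w hw
    exact Or.inl ⟨w', trivial, h'⟩

/-- The two charts at a pair of generators of the ideal. -/
theorem nonempty_twoChart (T : Atlas I b) {x y : A} (hI : I = Ideal.span {x, y}) (hx : x ∈ I) (hy : y ∈ I)
    (hsx : Function.Surjective (Polynomial.eval₂ (algebraMap A _) (frac I x y hy)))
    (hsy : Function.Surjective (Polynomial.eval₂ (algebraMap A _) (frac I y x hx))) :
    Nonempty (TwoChart b x y) := by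
  have hbij := chartHom_bijective T
  refine ⟨{
    U := chartOpen T ⟨x, hx⟩
    V := chartOpen T ⟨y, hy⟩
    hU := (isAffineOpen_top _).image_of_isOpenImmersion _
    hV := (isAffineOpen_top _).image_of_isOpenImmersion _
    cover := ?_
    u := chartHom T ⟨x, hx⟩ (frac I x y hy)
    v := chartHom T ⟨y, hy⟩ (frac I y x hx)
    mul_u := ?_
    mul_v := ?_
    nzdU := ?_
    basicOpen_le := basicOpen_chartHom_le T ⟨x, hx⟩ ⟨y, hy⟩
    surjU := ?_
    surjV := ?_ }⟩
  · exact sup_chartOpen_eq_top T hI hx hy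
  · rw [phi_chartOpen, RingHom.comp_apply, RingHom.comp_apply, ← map_mul, frac_mul_algebraMap]
  · rw [phi_chartOpen, RingHom.comp_apply, RingHom.comp_apply, ← map_mul, frac_mul_algebraMap]
  · rw [phi_chartOpen, RingHom.comp_apply]
    exact map_mem_nonZeroDivisors_of_flat (RingHom.Flat.of_bijective (hbij _))
      algebraMap_self_mem_nonZeroDivisors
  · intro s
    obtain ⟨t, rfl⟩ := (hbij _).2 s
    obtain ⟨g, rfl⟩ := hsx t
    exact ⟨g, by rw [Polynomial.hom_eval₂, ← phi_chartOpen]⟩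
  · intro s
    obtain ⟨t, rfl⟩ := (hbij _).2 s
    obtain ⟨g, rfl⟩ := hsy t
    exact ⟨g, by rw [Polynomial.hom_eval₂, ← phi_chartOpen]⟩

/-- A point blow-up of a two dimensional regular local ring has two charts. -/
theorem exists_twoChart {A : Type u} [CommRing A] [IsRegularLocalRing A] (hA : ringKrullDim A = 2)
    {X : Scheme.{u}} {b : X ⟶ Spec (CommRingCat.of A)}
    (hb : BlowUp.IsBlowUp b (sheafOf (maximalIdeal A))) :
    ∃ x y : A, Nonempty (TwoChart b x y) := by
  obtain ⟨T⟩ := nonempty_atlas_of_isBlowUp hb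
  obtain ⟨x, y, h⟩ := exists_param (hA := hA)
  exact ⟨x, y, nonempty_twoChart T h.span_eq h.mem_left h.mem_right h.aeval_surjective
    h.symm.aeval_surjective⟩

end Groth.PointBlowUp
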