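import Groth.Agent.BlowUpBasics.AffineAlgebra
import Groth.Agent.Ega4Algebra1.RegularLocal
import Mathlib.RingTheory.RegularLocalRing.Defs
import Mathlib.RingTheory.RegularLocalRing.Polynomial
import Mathlib.RingTheory.Localization.LocalizationLocalization
import Mathlib.RingTheory.Polynomial.Quotient
import Mathlib.RingTheory.FiniteType

/-!
# The charts of the blow-up of a two-dimensional regular local ring in its maximal ideal
-/

set_option autoImplicit false
universe u

open IsLocalRing

namespace Groth.PointBlowUp

/-- A prime at which a non-zero-divisor cuts out a regular ring is regular. -/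
theorem isRegularLocalRing_atPrime_of_regular_quotient {R : Type u} [CommRing R] [IsNoetherianRing R]
    (a : R) (ha : a ∈ nonZeroDivisors R) [IsRegularRing (R ⧸ Ideal.span {a})]
    (P : Ideal R) [P.IsPrime] (haP : a ∈ P) : IsRegularLocalRing (Localization.AtPrime P) := by
  let B := Localization.AtPrime P
  set J := Ideal.span {algebraMap R B a}
  have hmem : algebraMap R B a ∈ maximalIdeal B := (IsLocalization.AtPrime.to_map_mem_maximal_iff B P a).mpr haP
  have hle : Ideal.span {a} ≤ P := (Ideal.span_singleton_le_iff_mem P).mpr haP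
  set P' := P.map (Ideal.Quotient.mk (Ideal.span {a}))
  have hP' : P'.IsPrime :=
    Ideal.map_isPrime_of_surjective Ideal.Quotient.mk_surjective (by rwa [Ideal.mk_ker])
  have hcomap : P'.comap (Ideal.Quotient.mk (Ideal.span {a})) = P := by
    rw [Ideal.comap_map_of_surjective _ Ideal.Quotient.mk_surjective, ← RingHom.ker_eq_comap_bot, Ideal.mk_ker]
    exact sup_eq_left.mpr hle
  have hmap : (Ideal.span {a}).map (algebraMap R B) = J := by
    rw [Ideal.map_span, Set.image_singleton]
  let e : (R ⧸ Ideal.span {a}) →+* B ⧸ J :=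
    Ideal.quotientMap _ (algebraMap R B) (by rw [← hmap]; exact Ideal.le_comap_map)
  algebraize [e]
  have : IsScalarTower R (R ⧸ Ideal.span {a}) (B ⧸ J) := .of_algebraMap_eq fun _ => rfl
  have hiso : IsLocalization (Algebra.algebraMapSubmonoid (R ⧸ Ideal.span {a}) P.primeCompl) (B ⧸ J) :=
    IsLocalization.of_surjective P.primeCompl B (Ideal.Quotient.mk _) Ideal.Quotient.mk_surjective
      (Ideal.Quotient.mk _) Ideal.Quotient.mk_surjective (RingHom.ext fun _ => rfl)
      (by rw [Ideal.mk_ker, Ideal.mk_ker, hmap])
  have hsub : Algebra.algebraMapSubmonoid (R ⧸ Ideal.span {a}) P.primeCompl = P'.primeCompl := by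
    ext z
    constructor
    · rintro ⟨r, hr, rfl⟩ hz
      exact hr (hcomap ▸ (show r ∈ P'.comap (Ideal.Quotient.mk (Ideal.span {a})) from hz))
    · intro hz
      obtain ⟨r, rfl⟩ := Ideal.Quotient.mk_surjective z
      exact ⟨r, fun hr => hz (Ideal.mem_map_of_mem _ hr), rfl⟩
  rw [hsub] at hiso
  have : IsRegularLocalRing (B ⧸ J) := IsRegularLocalRing.of_ringEquiv
    (IsLocalization.algEquiv P'.primeCompl (Localization.AtPrime P') (B ⧸ J)).toRingEquiv
  have hnzd : algebraMap R B a ∈ nonZeroDivisors B :=
    IsLocalization.map_nonZeroDivisors_le P.primeCompl B ⟨a, ha, rfl⟩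
  exact Groth.Ega4Algebra1.isRegularLocalRing_of_quotient_span_singleton hmem hnzd

variable {A : Type u} [CommRing A] [IsRegularLocalRing A]

/-- Generators `a, b` of the maximal ideal. -/
structure Param (hA : ringKrullDim A = 2) (a b : A) : Prop where
  span_eq : maximalIdeal A = Ideal.span {a, b}

variable {hA : ringKrullDim A = 2} {a b : A}

lemma Param.mem_left (h : Param hA a b) : a ∈ maximalIdeal A :=
  h.span_eq ▸ Ideal.subset_span (by simp)

lemma Param.mem_right (h : Param hA a b) : b ∈ maximalIdeal A :=
  h.span_eq ▸ Ideal.subset_span (by simp)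

lemma Param.symm (h : Param hA a b) : Param hA b a := ⟨by rw [h.span_eq, Set.pair_comm]⟩

include hA in
lemma spanFinrank_maximalIdeal : (maximalIdeal A).spanFinrank = 2 := by
  have h := IsRegularLocalRing.spanFinrank_maximalIdeal (R := A)
  rw [hA] at h
  exact_mod_cast h

lemma Param.not_mem_sq (h : Param hA a b) : a ∉ maximalIdeal A ^ 2 := by
  intro ha
  have hle : maximalIdeal A ≤ Ideal.span {b} ⊔ maximalIdeal A • maximalIdeal A := by
    conv_lhs => rw [h.span_eq]
    rw [Ideal.span_le, Set.insert_subset_iff, Set.singleton_subset_iff]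
    exact ⟨Submodule.mem_sup_right (by rwa [smul_eq_mul, ← sq]),
      Submodule.mem_sup_left (Ideal.mem_span_singleton_self b)⟩
  have hb : maximalIdeal A ≤ Ideal.span {b} := Submodule.le_of_le_smul_of_le_jacobson_bot
    (Ideal.fg_of_isNoetherianRing _) (IsLocalRing.maximalIdeal_le_jacobson _) hle
  have heq : maximalIdeal A = Ideal.span {b} :=
    le_antisymm hb ((Ideal.span_singleton_le_iff_mem _).mpr h.mem_right)
  have h2 := spanFinrank_maximalIdeal (hA := hA) (A := A)
  rw [heq] at h2
  have h3 : (Ideal.span ({b} : Set A)).spanFinrank ≤ ({b} : Set A).ncard :=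
    Submodule.spanFinrank_span_le_ncard_of_finite (Set.finite_singleton b)
  simp at h3
  omega

include hA in
lemma exists_param : ∃ a b : A, Param hA a b := by
  have hfg := (maximalIdeal A).fg_of_isNoetherianRing
  have hn := Submodule.FG.generators_ncard hfg
  rw [spanFinrank_maximalIdeal (hA := hA)] at hn
  obtain ⟨x, y, -, hxy⟩ := Set.ncard_eq_two.mp hn
  exact ⟨x, y, ⟨(maximalIdeal A).span_generators.symm.trans (by rw [hxy])⟩⟩

include hA in
/-- Any element of order one is part of a system of parameters. -/
lemma exists_param_of_not_mem_sq {z : A} (hz : z ∈ maximalIdeal A) (hz2 : z ∉ maximalIdeal A ^ 2) :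
    ∃ w, Param hA z w := by
  obtain ⟨x, y, h⟩ := exists_param (hA := hA) (A := A)
  obtain ⟨r, s, hrs⟩ := Ideal.mem_span_pair.mp (h.span_eq ▸ hz)
  have key : ∀ {x y r s : A}, Param hA x y → r * x + s * y = z → IsUnit r → ∃ w, Param hA z w := by
    intro x y r s h hrs hr
    refine ⟨y, ⟨le_antisymm ?_ ?_⟩⟩
    · conv_lhs => rw [h.span_eq]
      rw [Ideal.span_le, Set.insert_subset_iff, Set.singleton_subset_iff]
      refine ⟨?_, Ideal.subset_span (by simp)⟩
      obtain ⟨u, rfl⟩ := hr
      refine Ideal.mem_span_pair.mpr ⟨↑u⁻¹, -(↑u⁻¹ * s), ?_⟩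
      rw [← hrs]
      linear_combination x * u.inv_mul
    · rw [Ideal.span_le, Set.insert_subset_iff, Set.singleton_subset_iff]
      exact ⟨hz, h.mem_right⟩
  by_cases hr : IsUnit r
  · exact key h hrs hr
  by_cases hs : IsUnit s
  · exact key h.symm (by rw [add_comm]; exact hrs) hs
  exfalso
  apply hz2
  rw [← hrs, sq]
  exact add_mem (Ideal.mul_mem_mul hr h.mem_left) (Ideal.mul_mem_mul hs h.mem_right)

lemma Param.isDomain_quotient (h : Param hA a b) : IsDomain (A ⧸ Ideal.span {a}) := by
  have := (Groth.Ega4Algebra1.isRegularLocalRing_quotient_span_singleton h.mem_left h.not_mem_sq).1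
  exact Groth.Ega4Algebra1.isDomain_of_isRegularLocalRing _

lemma Param.ne_zero (h : Param hA a b) : a ≠ 0 := fun h0 => h.not_mem_sq (h0 ▸ zero_mem _)

lemma Param.not_mem_span (h : Param hA a b) : b ∉ Ideal.span {a} := by
  intro hb
  have heq : maximalIdeal A = Ideal.span {a} := by
    rw [h.span_eq]
    exact le_antisymm (by simp [Ideal.span_le, Set.insert_subset_iff, hb]) (Ideal.span_mono (by simp))
  have h2 := spanFinrank_maximalIdeal (hA := hA) (A := A)
  rw [heq] at h2
  have h3 : (Ideal.span ({a} : Set A)).spanFinrank ≤ ({a} : Set A).ncard :=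
    Submodule.spanFinrank_span_le_ncard_of_finite (Set.finite_singleton a)
  simp at h3
  omega

/-- The parameters are analytically independent. -/
lemma Param.coeff_mem (h : Param hA a b) : ∀ (N : ℕ) (c : ℕ → A),
    ∑ i ∈ Finset.range (N + 1), c i * b ^ i * a ^ (N - i) = 0 → ∀ i ≤ N, c i ∈ maximalIdeal A := by
  have : IsDomain A := Groth.Ega4Algebra1.isDomain_of_isRegularLocalRing A
  have := h.isDomain_quotient
  intro N
  induction N with
  | zero =>
    intro c hc i hi
    obtain rfl : i = 0 := by omega
    simp only [zero_add, Finset.sum_range_one, Nat.sub_self, pow_zero, mul_one] at hc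
    rw [hc]
    exact zero_mem _
  | succ N ih =>
    intro c hc
    have hsplit : a * (∑ i ∈ Finset.range (N + 1), c i * b ^ i * a ^ (N - i)) + c (N + 1) * b ^ (N + 1) = 0 := by
      rw [Finset.sum_range_succ, Nat.sub_self, pow_zero, mul_one] at hc
      convert hc using 2
      rw [Finset.mul_sum]
      refine Finset.sum_congr rfl fun i hi => ?_
      rw [Finset.mem_range] at hi
      rw [Nat.succ_sub (by omega), pow_succ]
      ring
    have htop : c (N + 1) ∈ Ideal.span {a} := by
      have h1 : Ideal.Quotient.mk (Ideal.span {a}) (c (N + 1)) * Ideal.Quotient.mk (Ideal.span {a}) b ^ (N + 1) = 0 := by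
        have := congrArg (Ideal.Quotient.mk (Ideal.span {a})) hsplit
        rwa [map_add, map_mul, Ideal.Quotient.eq_zero_iff_mem.mpr (Ideal.mem_span_singleton_self a), zero_mul,
          zero_add, map_zero, map_mul, map_pow] at this
      refine Ideal.Quotient.eq_zero_iff_mem.mp ((mul_eq_zero.mp h1).resolve_right (pow_ne_zero _ ?_))
      rw [ne_eq, Ideal.Quotient.eq_zero_iff_mem]
      exact h.not_mem_span
    obtain ⟨d, hd⟩ := Ideal.mem_span_singleton'.mp htop
    let c' : ℕ → A := fun i => if i = N then c N + d * b else c i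
    have hc' : ∑ i ∈ Finset.range (N + 1), c' i * b ^ i * a ^ (N - i) = 0 := by
      refine (mul_right_inj' h.ne_zero).mp ?_
      rw [mul_zero, ← hsplit, Finset.sum_range_succ, Finset.sum_range_succ _ N, ← hd]
      have : ∑ i ∈ Finset.range N, c' i * b ^ i * a ^ (N - i) = ∑ i ∈ Finset.range N, c i * b ^ i * a ^ (N - i) :=
        Finset.sum_congr rfl fun i hi => by
          rw [Finset.mem_range] at hi
          simp [c', show i ≠ N by omega]
      rw [this]
      simp [c']
      ring
    intro i hi
    rcases Nat.lt_or_ge i (N + 1) with hlt | hge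
    · have hi' := ih c' hc' i (by omega)
      by_cases hiN : i = N
      · subst hiN
        simp only [c', if_true] at hi'
        have := sub_mem hi' (Ideal.mul_mem_left _ d h.mem_right)
        simpa using this
      · simpa [c', hiN] using hi'
    · obtain rfl : i = N + 1 := by omega
      rw [← hd]
      exact Ideal.mul_mem_left _ _ h.mem_left

variable (a) in
/-- The chart `A[𝔪/a]`. -/
abbrev Chart : Type u := BlowUp.affineAlgebra A (maximalIdeal A) a

/-- The coordinate `b / a` on the chart. -/
noncomputable def Param.T (h : Param hA a b) : Chart a :=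
  Groth.BlowUpBasics.frac (maximalIdeal A) a b h.mem_right

lemma Param.isDomain_chart (h : Param hA a b) : IsDomain (Chart a) := by
  have : IsDomain A := Groth.Ega4Algebra1.isDomain_of_isRegularLocalRing A
  have : IsDomain (Localization.Away a) := IsLocalization.isDomain_localization
    (M := Submonoid.powers a) (Submonoid.powers_le.mpr (mem_nonZeroDivisors_of_ne_zero h.ne_zero))
  infer_instance

lemma Param.aeval_surjective (h : Param hA a b) : Function.Surjective (Polynomial.aeval (R := A) h.T) := by
  rintro ⟨z, hz⟩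
  induction hz using Algebra.adjoin_induction with
  | mem z hz =>
    obtain ⟨x, hx, rfl⟩ := hz
    obtain ⟨r, s, rfl⟩ := Ideal.mem_span_pair.mp (h.span_eq ▸ hx)
    refine ⟨Polynomial.C r + Polynomial.C s * Polynomial.X, Subtype.ext ?_⟩
    refine IsLocalization.eq_mk'_iff_mul_eq.mpr ?_
    simp only [Polynomial.aeval_add, Polynomial.aeval_mul, Polynomial.aeval_C, Polynomial.aeval_X,
      Param.T, AddMemClass.coe_add, MulMemClass.coe_mul, Groth.BlowUpBasics.coe_frac]
    rw [add_mul, mul_assoc, IsLocalization.mk'_spec, map_add, map_mul, map_mul]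
    rfl
  | algebraMap r => exact ⟨Polynomial.C r, by simp; rfl⟩
  | add p q _ _ hp hq =>
    obtain ⟨g, hg⟩ := hp
    obtain ⟨g', hg'⟩ := hq
    exact ⟨g + g', by rw [map_add, hg, hg']; rfl⟩
  | mul p q _ _ hp hq =>
    obtain ⟨g, hg⟩ := hp
    obtain ⟨g', hg'⟩ := hq
    exact ⟨g * g', by rw [map_mul, hg, hg']; rfl⟩

lemma Param.isNoetherianRing_chart (h : Param hA a b) : IsNoetherianRing (Chart a) :=
  isNoetherianRing_of_surjective _ _ (Polynomial.aeval h.T).toRingHom h.aeval_surjective

/-- Clearing denominators in the chart. -/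
lemma Param.coe_aeval_mul_pow (h : Param hA a b) (g : Polynomial A) {N : ℕ} (hN : g.natDegree ≤ N) :
    (Polynomial.aeval h.T g : Localization.Away a) * algebraMap A _ a ^ N =
      algebraMap A _ (∑ i ∈ Finset.range (N + 1), g.coeff i * b ^ i * a ^ (N - i)) := by
  rw [Polynomial.aeval_eq_sum_range' (n := N + 1) (by omega), AddSubmonoidClass.coe_finsetSum, Finset.sum_mul,
    map_sum]
  refine Finset.sum_congr rfl fun i hi => ?_
  rw [Finset.mem_range] at hi
  have hT : (h.T : Localization.Away a) * algebraMap A _ a = algebraMap A _ b := by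
    rw [Param.T, Groth.BlowUpBasics.coe_frac]
    exact IsLocalization.mk'_spec _ _ _
  rw [Algebra.smul_def, MulMemClass.coe_mul, SubmonoidClass.coe_pow, map_mul, map_mul, map_pow, map_pow, ← hT]
  conv_lhs => rw [show N = i + (N - i) by omega, pow_add]
  rw [mul_pow]
  change algebraMap A _ (g.coeff i) * _ * _ = _
  ring

/-- A polynomial in `b / a` vanishes on the exceptional divisor only if its coefficients are in `𝔪`. -/
lemma Param.coeff_mem_of_aeval_mem (h : Param hA a b) {g : Polynomial A}
    (hg : Polynomial.aeval h.T g ∈ Ideal.span {algebraMap A (Chart a) a}) (i : ℕ) :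
    g.coeff i ∈ maximalIdeal A := by
  have : IsDomain A := Groth.Ega4Algebra1.isDomain_of_isRegularLocalRing A
  obtain ⟨q, hq⟩ := Ideal.mem_span_singleton'.mp hg
  obtain ⟨k, rfl⟩ := h.aeval_surjective q
  set N := max (max g.natDegree k.natDegree) i
  have hgN := h.coe_aeval_mul_pow g (N := N) (by omega)
  have hkN := h.coe_aeval_mul_pow k (N := N) (by omega)
  rw [← hq, MulMemClass.coe_mul, mul_right_comm, hkN] at hgN
  change algebraMap A (Localization.Away a) _ * algebraMap A (Localization.Away a) a = _ at hgN
  rw [← map_mul] at hgN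
  have heq := IsLocalization.injective (M := Submonoid.powers a) (Localization.Away a)
    (Submonoid.powers_le.mpr (mem_nonZeroDivisors_of_ne_zero h.ne_zero)) hgN
  have hzero : ∑ j ∈ Finset.range (N + 1), (g.coeff j - k.coeff j * a) * b ^ j * a ^ (N - j) = 0 := by
    simp only [sub_mul, Finset.sum_sub_distrib]
    rw [← heq, Finset.sum_mul, sub_eq_zero]
    exact Finset.sum_congr rfl fun j _ => by ring
  have := add_mem (h.coeff_mem N _ hzero i (by omega)) (Ideal.mul_mem_left _ (k.coeff i) h.mem_left)
  simpa using this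

/-- The map `A[T] → A[𝔪/a] / (a)`. -/
noncomputable def Param.toExc (h : Param hA a b) :
    Polynomial A →+* Chart a ⧸ Ideal.span {algebraMap A (Chart a) a} :=
  (Ideal.Quotient.mk _).comp (Polynomial.aeval h.T).toRingHom

lemma Param.ker_toExc (h : Param hA a b) :
    RingHom.ker h.toExc = RingHom.ker (Polynomial.mapRingHom (residue A)) := by
  ext g
  rw [RingHom.mem_ker, RingHom.mem_ker, Polynomial.coe_mapRingHom, Polynomial.ext_iff]
  constructor
  · intro hg i
    rw [Polynomial.coeff_map, Polynomial.coeff_zero, residue_eq_zero_iff]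
    exact h.coeff_mem_of_aeval_mem (Ideal.Quotient.eq_zero_iff_mem.mp hg) i
  · intro hg
    refine Ideal.Quotient.eq_zero_iff_mem.mpr ?_
    change Polynomial.aeval h.T g ∈ _
    rw [Polynomial.aeval_eq_sum_range]
    refine Ideal.sum_mem _ fun i _ => ?_
    rw [Algebra.smul_def]
    refine Ideal.mul_mem_right _ _ ?_
    rw [← Groth.BlowUpBasics.map_eq_span h.mem_left]
    refine Ideal.mem_map_of_mem _ ?_
    have := hg i
    rwa [Polynomial.coeff_map, Polynomial.coeff_zero, residue_eq_zero_iff] at this

/-- The exceptional divisor in the chart is the affine line over the residue field. -/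
noncomputable def Param.excEquiv (h : Param hA a b) :
    Chart a ⧸ Ideal.span {algebraMap A (Chart a) a} ≃+* Polynomial (ResidueField A) :=
  (RingHom.quotientKerEquivOfSurjective (f := h.toExc)
      (Ideal.Quotient.mk_surjective.comp h.aeval_surjective)).symm.trans <|
    (Ideal.quotEquivOfEq h.ker_toExc).trans <|
      RingHom.quotientKerEquivOfSurjective (f := Polynomial.mapRingHom (residue A))
        (Polynomial.map_surjective _ residue_surjective)

lemma Param.excEquiv_mk (h : Param hA a b) (g : Polynomial A) :
    h.excEquiv (Ideal.Quotient.mk _ (Polynomial.aeval h.T g)) = g.map (residue A) := by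
  rw [Param.excEquiv, RingEquiv.trans_apply,
    show Ideal.Quotient.mk _ (Polynomial.aeval h.T g) =
      RingHom.quotientKerEquivOfSurjective (f := h.toExc) (Ideal.Quotient.mk_surjective.comp h.aeval_surjective)
        (Ideal.Quotient.mk _ g) from rfl,
    RingEquiv.symm_apply_apply]
  rfl

lemma Param.isRegularRing_exc (h : Param hA a b) :
    IsRegularRing (Chart a ⧸ Ideal.span {algebraMap A (Chart a) a}) := by
  have := isNoetherianRing_of_ringEquiv _ h.excEquiv.symm
  rw [isRegularRing_iff]
  intro P hP
  haveI : IsRegularRing (Polynomial (ResidueField A)) := inferInstance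
  have := IsRegularRing.of_ringEquiv (R := Polynomial (ResidueField A))
    (R' := Chart a ⧸ Ideal.span {algebraMap A (Chart a) a}) h.excEquiv.symm
  exact this.isRegularLocalRing_localization P

lemma Param.span_isPrime (h : Param hA a b) : (Ideal.span {algebraMap A (Chart a) a}).IsPrime :=
  (Ideal.Quotient.isDomain_iff_prime _).mp h.excEquiv.injective.isDomain

omit [IsRegularLocalRing A] in
/-- Inverting `a` in `A[I/a]` gives `A_a`. -/
lemma isLocalization_away_affineAlgebra (I : Ideal A) (a : A) :
    IsLocalization.Away (algebraMap A (BlowUp.affineAlgebra A I a) a) (Localization.Away a) := by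
  constructor
  refine ⟨?_, fun z => ?_, fun {x y} h => ⟨1, ?_⟩⟩
  · rintro ⟨_, n, rfl⟩
    change IsUnit (algebraMap _ (Localization.Away a) _)
    rw [map_pow]
    exact (IsLocalization.Away.algebraMap_isUnit (S := Localization.Away a) a).pow n
  · obtain ⟨⟨r, _, n, rfl⟩, hr⟩ := IsLocalization.surj (Submonoid.powers a) z
    refine ⟨⟨algebraMap A _ r, _, n, rfl⟩, ?_⟩
    simp only [map_pow] at hr ⊢
    exact hr
  · rw [Submonoid.coe_one, one_mul, one_mul]
    exact Subtype.ext h

/-- The localization of a regular ring blown up is regular off the exceptional divisor. -/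
lemma isRegularLocalRing_of_notMem (I : Ideal A) {a : A} {P : Ideal (BlowUp.affineAlgebra A I a)} [P.IsPrime]
    (haP : algebraMap A _ a ∉ P) : IsRegularLocalRing (Localization.AtPrime P) := by
  have := isLocalization_away_affineAlgebra I a
  set M := Submonoid.powers (algebraMap A (BlowUp.affineAlgebra A I a) a)
  have hd := (Ideal.disjoint_powers_iff_notMem_of_isPrime _).mpr haP
  set Q := P.map (algebraMap _ (Localization.Away a))
  have hQ : Q.IsPrime := IsLocalization.isPrime_of_isPrime_disjoint M _ P ‹_› hd
  have hQP : Q.under (BlowUp.affineAlgebra A I a) = P :=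
    IsLocalization.under_map_of_isPrime_disjoint M _ ‹_› hd
  have e₁ : IsLocalization.AtPrime (Localization.AtPrime Q) P := by
    have := IsLocalization.isLocalization_isLocalization_atPrime_isLocalization M
      (Localization.AtPrime Q) Q
    simpa only [← hQP] using this
  have e₂ : IsLocalization.AtPrime (Localization.AtPrime Q) (Q.under A) :=
    IsLocalization.isLocalization_isLocalization_atPrime_isLocalization (Submonoid.powers a)
      (Localization.AtPrime Q) Q
  have := Groth.Ega4Algebra1.isRegularLocalRing_localization_atPrime A (Q.under A)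
  have : IsRegularLocalRing (Localization.AtPrime Q) := IsRegularLocalRing.of_ringEquiv
    (IsLocalization.algEquiv (Q.under A).primeCompl (Localization.AtPrime (Q.under A)) (Localization.AtPrime Q)).toRingEquiv
  exact IsRegularLocalRing.of_ringEquiv
    (IsLocalization.algEquiv P.primeCompl (Localization.AtPrime Q) (Localization.AtPrime P)).toRingEquiv

include hA in
/-- A chart point on the exceptional divisor lies in a chart of an element of order one. -/
lemma not_mem_sq_of_mem {z : A} {P : Ideal (Chart z)} [P.IsPrime] (hz : z ∈ maximalIdeal A)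
    (hzP : algebraMap A (Chart z) z ∈ P) : z ∉ maximalIdeal A ^ 2 := by
  intro hz2
  have : IsDomain A := Groth.Ega4Algebra1.isDomain_of_isRegularLocalRing A
  have h1 : algebraMap A (Chart z) z ∈ (maximalIdeal A).map (algebraMap A (Chart z)) ^ 2 := by
    rw [← Ideal.map_pow]; exact Ideal.mem_map_of_mem _ hz2
  rw [Groth.BlowUpBasics.map_eq_span hz, Ideal.span_singleton_pow, Ideal.mem_span_singleton'] at h1
  obtain ⟨q, hq⟩ := h1
  have hnzd : algebraMap A (Chart z) z ∈ nonZeroDivisors (Chart z) :=
    Groth.BlowUpBasics.algebraMap_self_mem_nonZeroDivisors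
  have h1' : 1 = q * algebraMap A (Chart z) z :=
    (mul_cancel_right_mem_nonZeroDivisors hnzd).mp (by rw [one_mul, mul_assoc, ← sq, hq])
  exact Ideal.IsPrime.ne_top ‹_› ((Ideal.eq_top_iff_one _).mpr (h1' ▸ Ideal.mul_mem_left _ q hzP))

include hA in
/-- All local rings of every chart are regular. -/
theorem isRegularLocalRing_chart {z : A} (hz : z ∈ maximalIdeal A) (P : Ideal (Chart z)) [P.IsPrime] :
    IsRegularLocalRing (Localization.AtPrime P) := by
  by_cases hzP : algebraMap A (Chart z) z ∈ P
  · obtain ⟨w, hw⟩ := exists_param_of_not_mem_sq (hA := hA) hz (not_mem_sq_of_mem (hA := hA) hz hzP)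
    have := hw.isNoetherianRing_chart
    have := hw.isRegularRing_exc
    exact isRegularLocalRing_atPrime_of_regular_quotient (R := Chart z) (algebraMap A (Chart z) z)
      (Groth.BlowUpBasics.algebraMap_self_mem_nonZeroDivisors (I := maximalIdeal A) (a := z)) P hzP
  · exact isRegularLocalRing_of_notMem (maximalIdeal A) hzP

end Groth.PointBlowUp
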