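import Groth.Agent.OmegaSheaf.Universal
import Groth.Agent.OmegaSheaf.Smooth
import Groth.Agent.LocFree.ExtFunctor
import Groth.Agent.Curves1.CurveMor.Smooth

/-!
# The top differential form attached to regular parameters at a closed point of a surface
-/

set_option autoImplicit false
set_option backward.isDefEq.respectTransparency.types false
universe u

open CategoryTheory CategoryTheory.Limits AlgebraicGeometry TopologicalSpace Opposite

namespace Groth.PointBlowUp

open Groth.PicAux Groth.LocFree Groth.OmegaSheaf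

variable {X : Scheme.{u}} (E : X.Modules)

/-- `a ∧ b`. -/
noncomputable def wdg (W : X.Opens) (a b : Γ(E, W)) : Γ(extPow 2 E, W) := wedge 2 E ![a, b]

theorem res_wdg {V W : X.Opens} (h : V ≤ W) (a b : Γ(E, W)) :
    res _ h (wdg E W a b) = wdg E V (res E h a) (res E h b) := by
  rw [wdg, res_wedge]
  refine congrArg _ ?_
  funext i
  fin_cases i <;> rfl

theorem wdg_add (W : X.Opens) (a a' b : Γ(E, W)) : wdg E W (a + a') b = wdg E W a b + wdg E W a' b := by
  change extUnit 2 E W (exteriorPower.ιMulti Γ(X, W) 2 ![a + a', b]) =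
    extUnit 2 E W (exteriorPower.ιMulti Γ(X, W) 2 ![a, b]) +
      extUnit 2 E W (exteriorPower.ιMulti Γ(X, W) 2 ![a', b])
  rw [← map_add]
  exact congrArg _ ((exteriorPower.ιMulti Γ(X, W) 2).map_vecCons_add ![b] a a')

theorem wdg_smul (W : X.Opens) (r : Γ(X, W)) (a b : Γ(E, W)) : wdg E W (r • a) b = r • wdg E W a b := by
  change extUnit 2 E W (exteriorPower.ιMulti Γ(X, W) 2 ![r • a, b]) =
    r • extUnit 2 E W (exteriorPower.ιMulti Γ(X, W) 2 ![a, b])
  rw [← map_smul]
  exact congrArg _ ((exteriorPower.ιMulti Γ(X, W) 2).map_vecCons_smul ![b] r a)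

theorem wdg_self (W : X.Opens) (a : Γ(E, W)) : wdg E W a a = 0 := by
  change extUnit 2 E W (exteriorPower.ιMulti Γ(X, W) 2 ![a, a]) = 0
  rw [(exteriorPower.ιMulti Γ(X, W) 2).map_eq_zero_of_eq ![a, a] (i := 0) (j := 1) rfl (by decide),
    map_zero]

theorem wdg_swap (W : X.Opens) (a b : Γ(E, W)) : wdg E W b a = -wdg E W a b := by
  change extUnit 2 E W (exteriorPower.ιMulti Γ(X, W) 2 ![b, a]) =
    -extUnit 2 E W (exteriorPower.ιMulti Γ(X, W) 2 ![a, b])
  rw [← map_neg, ← (exteriorPower.ιMulti Γ(X, W) 2).map_swap ![a, b] (show (0 : Fin 2) ≠ 1 by decide)]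
  refine congrArg _ (congrArg _ ?_)
  funext i
  fin_cases i <;> rfl

theorem wdg_add_right (W : X.Opens) (a b b' : Γ(E, W)) : wdg E W a (b + b') = wdg E W a b + wdg E W a b' := by
  rw [wdg_swap E W (b + b') a, wdg_add, wdg_swap E W a b, wdg_swap E W a b']
  abel

theorem wdg_smul_right (W : X.Opens) (r : Γ(X, W)) (a b : Γ(E, W)) :
    wdg E W a (r • b) = r • wdg E W a b := by
  rw [wdg_swap E W (r • b) a, wdg_smul, wdg_swap E W a b, smul_neg, neg_neg]

theorem wdg_comb (W : X.Opens) (a₀ b₀ a₁ b₁ : Γ(X, W)) (u v : Γ(E, W)) :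
    wdg E W (a₀ • u + b₀ • v) (a₁ • u + b₁ • v) = (a₀ * b₁ - a₁ * b₀) • wdg E W u v := by
  rw [wdg_add, wdg_add_right, wdg_add_right, wdg_smul, wdg_smul, wdg_smul, wdg_smul, wdg_smul_right,
    wdg_smul_right, wdg_smul_right, wdg_smul_right, wdg_self, wdg_self, wdg_swap E W u v, smul_smul,
    smul_smul, sub_smul]
  simp only [smul_zero, smul_neg, zero_add, add_zero, smul_smul]
  rw [mul_comm b₀ a₁]
  abel

variable {k : Type u} [Field k] [IsAlgClosed k] [X.Over (Spec (CommRingCat.of k))]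
  [LocallyOfFiniteType (X ↘ Spec (CommRingCat.of k))] [QuasiSeparated (X ↘ Spec (CommRingCat.of k))]

local notation "fX" => X ↘ Spec (CommRingCat.of k)
local notation "Ω'" => Omega.sheaf fX

/-- The differential of a function. -/
noncomputable def dSec (W : X.Opens) (s : Γ(X, W)) : Γ(Ω', W) := (OmegaSh.dOmega fX).app W s

theorem dSec_mul (W : X.Opens) (s t : Γ(X, W)) :
    dSec (k := k) W (s * t) = s • dSec W t + t • dSec W s := (OmegaSh.dOmega fX).d_mul s t

theorem dSec_add (W : X.Opens) (s t : Γ(X, W)) :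
    dSec (k := k) W (s + t) = dSec W s + dSec W t := map_add _ s t

theorem res_dSec {V W : X.Opens} (h : V ≤ W) (s : Γ(X, W)) :
    res Ω' h (dSec (k := k) W s) = dSec V (resX X h s) := res_der fX (OmegaSh.dOmega fX) h s

omit [IsAlgClosed k] [LocallyOfFiniteType fX] [QuasiSeparated fX] in
theorem le_preimage_specTop (V : X.Opens) : V ≤ fX ⁻¹ᵁ (⊤ : (Spec (CommRingCat.of k)).Opens) := le_top

/-- Every function is congruent to a constant modulo the maximal ideal of a closed point. -/
theorem exists_const {y : X} (hy : IsClosed ({y} : Set X)) {V : X.Opens} (hyV : y ∈ V) (s : Γ(X, V)) :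
    ∃ c : Γ(Spec (CommRingCat.of k), ⊤),
      X.presheaf.germ V y hyV (s - (fX).appLE ⊤ V (le_preimage_specTop V) c) ∈
        IsLocalRing.maximalIdeal (X.presheaf.stalk y) := by
  let := Curv2.resAlgebra k X y
  have := Groth.Curves1.CurveMor.finite_residueField_of_isClosed (k := k) hy
  obtain ⟨c₀, hc⟩ := IsAlgClosed.algebraMap_bijective_of_isIntegral (k := k).2
    (X.residue y (X.presheaf.germ V y hyV s))
  refine ⟨(Scheme.ΓSpecIso (CommRingCat.of k)).inv c₀, (IsLocalRing.residue_eq_zero_iff _).1 ?_⟩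
  change X.residue y _ = 0
  rw [map_sub, map_sub, sub_eq_zero]
  refine hc.symm.trans (congrArg (X.residue y) ?_)
  rw [Scheme.Hom.appLE]
  exact (TopCat.Presheaf.germ_res_apply X.presheaf (homOfLE (le_top : V ≤ ⊤)) y hyV _).symm

/-- Regular parameters give a generating top form near a closed point. -/
theorem exists_gen_wdg (hL : PicF.IsInvertible (extPow 2 Ω')) {y : X} (hy : IsClosed ({y} : Set X))
    {V : X.Opens} (hV : IsAffineOpen V) (hyV : y ∈ V) (u v : Γ(X, V))
    (hm : IsLocalRing.maximalIdeal (X.presheaf.stalk y) =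
      Ideal.span {X.presheaf.germ V y hyV u, X.presheaf.germ V y hyV v}) :
    ∃ (W : X.Opens) (hW : W ≤ V), y ∈ W ∧
      Gen (extPow 2 Ω') W (res _ hW (wdg Ω' V (dSec V u) (dSec V v))) := by
  let B := Γ(X, V)
  let c : Chart fX := ⟨V, ⊤, hV, isAffineOpen_top _, le_preimage_specTop V⟩
  let p := (hV.primeIdealOf ⟨y, hyV⟩).asIdeal
  let _ := TopCat.Presheaf.algebra_section_stalk X.presheaf ⟨y, hyV⟩
  have hloc := hV.isLocalization_stalk ⟨y, hyV⟩
  have hp : ∀ s : B, s ∈ p ↔ X.presheaf.germ V y hyV s ∈ IsLocalRing.maximalIdeal (X.presheaf.stalk y) :=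
    fun s => (IsLocalization.AtPrime.to_map_mem_maximal_iff (X.presheaf.stalk y) p s).symm
  let M := Γ(Ω', V)
  let N : Submodule B M := Submodule.span B {dSec V u, dSec V v}
  have hpmax : p.IsMaximal := (hV.primeIdealOf_isMaximal_of_isClosed ⟨y, hyV⟩ hy)
  have hu : u ∈ p := (hp u).2 (hm ▸ Ideal.subset_span (by simp))
  have hv : v ∈ p := (hp v).2 (hm ▸ Ideal.subset_span (by simp))
  have hd0 : ∀ c₀, dSec (k := k) V ((fX).appLE ⊤ V (le_preimage_specTop V) c₀) = 0 := fun c₀ => by
    let _ := chartAlg fX (le_preimage_specTop V)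
    let _ := chartModule fX (le_preimage_specTop V) Ω'
    exact (chartDer fX (le_preimage_specTop V) (OmegaSh.dOmega fX)).map_algebraMap c₀
  have hd : ∀ s : B, dSec (k := k) V s ∈ N ⊔ p • (⊤ : Submodule B M) := by
    intro s
    obtain ⟨c₀, hc₀⟩ := exists_const (k := k) hy hyV s
    let s' := s - (fX).appLE ⊤ V (le_preimage_specTop V) c₀
    have hs : dSec (k := k) V s = dSec V s' := by
      have := dSec_add (k := k) V s' ((fX).appLE ⊤ V (le_preimage_specTop V) c₀)
      rwa [sub_add_cancel, hd0, add_zero] at this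
    rw [hm, Ideal.mem_span_pair] at hc₀
    obtain ⟨r₁, r₂, hr⟩ := hc₀
    obtain ⟨a, h₁, rfl⟩ := IsLocalization.exists_mk'_eq p.primeCompl r₁
    obtain ⟨b, h₂, rfl⟩ := IsLocalization.exists_mk'_eq p.primeCompl r₂
    have hprod : algebraMap B (X.presheaf.stalk y) (a * h₂.1 * u + b * h₁.1 * v) =
        algebraMap B (X.presheaf.stalk y) (h₁.1 * h₂.1 * s') := by
      change _ = algebraMap B (X.presheaf.stalk y) (h₁.1 * h₂.1 * (s - _))
      rw [map_add, map_mul, map_mul, map_mul, map_mul, map_mul, map_mul]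
      change _ = _ * X.presheaf.germ V y hyV (s - _)
      rw [← hr, ← IsLocalization.mk'_spec (X.presheaf.stalk y) a h₁,
        ← IsLocalization.mk'_spec (X.presheaf.stalk y) b h₂]
      change _ = _ * (_ * algebraMap B (X.presheaf.stalk y) u + _ * algebraMap B (X.presheaf.stalk y) v)
      ring
    obtain ⟨h₃, he⟩ := (IsLocalization.eq_iff_exists p.primeCompl (X.presheaf.stalk y)).1 hprod
    obtain ⟨h, hh, a', b', he'⟩ : ∃ h, h ∉ p ∧ ∃ a' b', h * s' = a' * u + b' * v :=
      ⟨h₃.1 * (h₁.1 * h₂.1), (h₃ * (h₁ * h₂)).2, h₃.1 * (a * h₂.1), h₃.1 * (b * h₁.1),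
        by linear_combination he.symm⟩
    have hs' : s' ∈ p := (hp s').2 (hr ▸ by
      exact add_mem (Ideal.mul_mem_left _ _ ((hp u).1 hu)) (Ideal.mul_mem_left _ _ ((hp v).1 hv)))
    have key : h • dSec (k := k) V s' ∈ N ⊔ p • (⊤ : Submodule B M) := by
      have e := congrArg (dSec (k := k) V) he'
      change dSec (k := k) V (h * s') = dSec V (a' * u + b' * v) at e
      rw [dSec_add, dSec_mul, dSec_mul, dSec_mul] at e
      rw [eq_sub_of_add_eq e]
      refine sub_mem (add_mem (add_mem ?_ ?_) (add_mem ?_ ?_)) ?_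
      · exact Submodule.mem_sup_left (N.smul_mem _ (Submodule.subset_span (by simp)))
      · exact Submodule.mem_sup_right (Submodule.smul_mem_smul hu trivial)
      · exact Submodule.mem_sup_left (N.smul_mem _ (Submodule.subset_span (by simp)))
      · exact Submodule.mem_sup_right (Submodule.smul_mem_smul hv trivial)
      · exact Submodule.mem_sup_right (Submodule.smul_mem_smul hs' trivial)
    obtain ⟨g, q, hq, hgq⟩ := hpmax.exists_inv (x := h) hh
    rw [hs, ← one_smul B (dSec (k := k) V s'), ← hgq, add_smul, mul_smul]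
    exact add_mem (Submodule.smul_mem _ g key) (Submodule.mem_sup_right (Submodule.smul_mem_smul hq trivial))
  let _ := chartAlg fX (le_preimage_specTop V)
  have : Algebra.FiniteType Γ(Spec (CommRingCat.of k), ⊤) B :=
    (fX).finiteType_appLE (isAffineOpen_top _) hV (le_preimage_specTop V)
  have : Module.Finite B M := Module.Finite.equiv (chartEquiv fX (le_preimage_specTop V) (isAffineOpen_top _) hV)
  have htop : (⊤ : Submodule B M) ≤ N ⊔ p • ⊤ := by
    conv_lhs => rw [← span_d fX (isAffineOpen_top _) hV (le_preimage_specTop V)]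
    rw [Submodule.span_le]
    rintro _ ⟨s, rfl⟩
    exact hd s
  obtain ⟨r, hr1, hr⟩ : ∃ r : B, r - 1 ∈ p ∧ ∀ m : M, r • m ∈ N := by
    obtain ⟨r, hr1, hr⟩ := Submodule.exists_sub_one_mem_and_smul_eq_zero_of_fg_of_le_smul p
      (⊤ : Submodule B (M ⧸ N)) Module.Finite.fg_top (by
        rw [← Submodule.range_mkQ N, ← Submodule.map_top, ← Submodule.map_smul'']
        refine (Submodule.map_mono htop).trans ?_
        rw [Submodule.map_sup, Submodule.mkQ_map_self, bot_sup_eq])
    exact ⟨r, hr1, fun m => (Submodule.Quotient.mk_eq_zero N).1 (by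
      simpa using hr (Submodule.Quotient.mk m) trivial)⟩
  have hrp : r ∉ p := fun h => hpmax.ne_top ((Ideal.eq_top_iff_one p).2 (by simpa using sub_mem h hr1))
  obtain ⟨W₀, v₀, hyW₀, hv₀⟩ := (isInvertible_iff_exists_gen _).1 hL y
  have hyr : y ∈ X.basicOpen r := (Scheme.mem_basicOpen X r y hyV).2
    (IsLocalization.map_units (X.presheaf.stalk y) (⟨r, hrp⟩ : p.primeCompl))
  obtain ⟨g, hgle, hyg⟩ := hV.exists_basicOpen_le (V := W₀ ⊓ X.basicOpen r) ⟨y, hyW₀, hyr⟩ hyV
  let W := X.basicOpen g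
  have hWV : W ≤ V := X.basicOpen_le g
  have hWa : IsAffineOpen W := hV.basicOpen g
  refine ⟨W, hWV, hyg, ?_⟩
  have hru : IsUnit (resX X hWV r) := by
    have h1 : IsUnit (X.presheaf.map (homOfLE (X.basicOpen_le r)).op r) := RingedSpace.isUnit_res_basicOpen _ r
    have h2 := h1.map (X.presheaf.map (homOfLE (hgle.trans inf_le_right)).op).hom
    rw [← ConcreteCategory.comp_apply, ← Functor.map_comp] at h2
    exact h2
  let S : Submodule Γ(X, W) Γ(Ω', W) := Submodule.span Γ(X, W) {dSec W (resX X hWV u), dSec W (resX X hWV v)}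
  have hS : ∀ m : M, res Ω' hWV m ∈ S := by
    intro m
    obtain ⟨a, b, hab⟩ := Submodule.mem_span_pair.1 (hr m)
    have e := congrArg (res Ω' hWV) hab
    rw [res_add, res_smul, res_smul, res_smul, res_dSec, res_dSec] at e
    have h1 : resX X hWV r • res Ω' hWV m ∈ S :=
      e ▸ add_mem (S.smul_mem _ (Submodule.subset_span (by simp))) (S.smul_mem _ (Submodule.subset_span (by simp)))
    exact (S.smul_mem_iff_of_isUnit hru).1 h1
  let _ := chartAlg fX (le_preimage_specTop W)
  have hStop : ⊤ ≤ S := by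
    conv_lhs => rw [← span_d fX (isAffineOpen_top _) hWa (le_preimage_specTop W)]
    rw [Submodule.span_le]
    rintro _ ⟨t, rfl⟩
    change dSec W t ∈ S
    haveI := hV.isLocalization_basicOpen g
    obtain ⟨⟨b, ⟨_, n, rfl⟩⟩, hb⟩ := IsLocalization.surj (Submonoid.powers g) t
    change t * resX X hWV (g ^ n) = resX X hWV b at hb
    have e := congrArg (dSec (k := k) W) hb
    rw [dSec_mul] at e
    have h1 : resX X hWV (g ^ n) • dSec (k := k) W t ∈ S := by
      rw [eq_sub_of_add_eq' e, ← res_dSec, ← res_dSec]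
      exact sub_mem (hS _) (S.smul_mem _ (hS _))
    refine (S.smul_mem_iff_of_isUnit ?_).1 h1
    exact IsLocalization.map_units Γ(X, W) (⟨g ^ n, n, rfl⟩ : Submonoid.powers g)
  have hgen : ∀ z : Γ(extPow 2 Ω', W), ∃ t : Γ(X, W), z = t • wdg Ω' W (dSec W (resX X hWV u)) (dSec W (resX X hWV v)) := by
    intro z
    obtain ⟨x, rfl⟩ := (extUnit_bijective 2 Ω' hWa).2 z
    induction x using esec_induction with
    | wedge e =>
      obtain ⟨a₀, b₀, h0⟩ := Submodule.mem_span_pair.1 (hStop (trivial : e 0 ∈ ⊤))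
      obtain ⟨a₁, b₁, h1⟩ := Submodule.mem_span_pair.1 (hStop (trivial : e 1 ∈ ⊤))
      refine ⟨a₀ * b₁ - a₁ * b₀, ?_⟩
      rw [← wdg_comb, h0, h1]
      change wedge 2 Ω' e = wedge 2 Ω' ![e 0, e 1]
      exact congrArg _ (funext fun i => by fin_cases i <;> rfl)
    | zero => exact ⟨0, by rw [map_zero, zero_smul]⟩
    | add a b ha hb =>
      obtain ⟨t, ht⟩ := ha
      obtain ⟨t', ht'⟩ := hb
      exact ⟨t + t', by rw [map_add, ht, ht', add_smul]⟩
    | smul r a ha =>
      obtain ⟨t, ht⟩ := ha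
      exact ⟨r * t, by rw [map_smul, ht, mul_smul]⟩
  have hv₁ := hv₀.res (hgle.trans inf_le_left : W ≤ W₀)
  obtain ⟨s, hs⟩ := hv₁.exists_coeff le_rfl (wdg Ω' W (dSec W (resX X hWV u)) (dSec W (resX X hWV v)))
  obtain ⟨t, ht⟩ := hgen (res _ (hgle.trans inf_le_left : W ≤ W₀) v₀)
  rw [res_self] at hs
  have hts : IsUnit s := by
    refine IsUnit.of_mul_eq_one t (hv₁.smul_inj le_rfl ?_)
    rw [res_self, one_smul]
    conv_rhs => rw [ht, hs, smul_smul]
    rw [mul_comm]
  rw [res_wdg, res_dSec, res_dSec, hs]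
  exact hv₁.smul_unit hts

end Groth.PointBlowUp
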