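import Groth.Agent.PointBlowUp.SelfInt
import Groth.Agent.PointBlowUp.OmegaGen
import Groth.Agent.OmegaSheaf.Pull
import Groth.Agent.LocFree.ExtPullback
import Groth.Agent.PicAux.EffCartierLine
import Groth.Agent.OmegaSheaf.SmoothRank
import Groth.Agent.Flatmor4.MiracleScheme
import Groth.Agent.CurveBridge.RegularSmooth

/-!
# The canonical module of the blow-up of a surface in a closed point
-/

set_option autoImplicit false
set_option backward.isDefEq.respectTransparency.types false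
universe u

open CategoryTheory CategoryTheory.Limits AlgebraicGeometry TopologicalSpace IsLocalRing

namespace Groth.PointBlowUp

open Groth.PicAux Groth.LocFree Groth.OmegaSheaf Groth.BlowUpBasics

section

variable {X : Scheme.{u}}

/-- Equal germs up to a unit spread to a neighbourhood. -/
theorem exists_unit_spread {y : X} {U V : X.Opens} (hU : y ∈ U) (hV : y ∈ V) (s : Γ(X, U)) (t : Γ(X, V))
    (μ : X.presheaf.stalk y) (hμ : IsUnit μ) (h : X.presheaf.germ U y hU s = μ * X.presheaf.germ V y hV t) :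
    ∃ (W : X.Opens) (hWU : W ≤ U) (hWV : W ≤ V) (a : Γ(X, W)), y ∈ W ∧ IsUnit a ∧
      resX X hWU s = a * resX X hWV t := by
  obtain ⟨U₁, hyU₁, a₁, rfl⟩ := TopCat.Presheaf.exists_germ_eq X.presheaf μ
  let O : X.Opens := X.basicOpen a₁ ⊓ (U ⊓ V)
  have hyO : y ∈ O := ⟨(Scheme.mem_basicOpen X a₁ y hyU₁).2 hμ, hU, hV⟩
  have hO₁ : O ≤ U₁ := inf_le_left.trans (X.basicOpen_le a₁)
  have hOU : O ≤ U := inf_le_right.trans inf_le_left
  have hOV : O ≤ V := inf_le_right.trans inf_le_right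
  have hg : ∀ {W : X.Opens} (hW : O ≤ W) (z : Γ(X, W)),
      X.presheaf.germ O y hyO (resX X hW z) = X.presheaf.germ W y (hW hyO) z :=
    fun hW z => TopCat.Presheaf.germ_res_apply X.presheaf (homOfLE hW) y hyO z
  have e : X.presheaf.germ O y hyO (resX X hOU s) = X.presheaf.germ O y hyO (resX X hO₁ a₁ * resX X hOV t) := by
    rw [map_mul, hg, hg, hg]; exact h
  obtain ⟨W, hyW, i₁, i₂, he⟩ := TopCat.Presheaf.germ_eq X.presheaf y hyO hyO _ _ e
  obtain rfl : i₁ = i₂ := Subsingleton.elim _ _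
  refine ⟨W, i₁.le.trans hOU, i₁.le.trans hOV, resX X (i₁.le.trans hO₁) a₁, hyW, ?_, ?_⟩
  · have h1 : IsUnit (resX X (X.basicOpen_le a₁) a₁) := RingedSpace.isUnit_res_basicOpen _ a₁
    have h2 := h1.map (resX X (i₁.le.trans inf_le_left : W ≤ X.basicOpen a₁))
    rwa [resX_resX] at h2
  · have he' : resX X i₁.le (resX X hOU s) = resX X i₁.le (resX X hO₁ a₁ * resX X hOV t) := he
    rw [map_mul, resX_resX, resX_resX, resX_resX] at he'
    exact he'

/-- The differential of a product in the wedge. -/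
theorem wdg_dSec_mul {k : Type u} [Field k] [IsAlgClosed k] [X.Over (Spec (CommRingCat.of k))]
    [LocallyOfFiniteType (X ↘ Spec (CommRingCat.of k))]
    [QuasiSeparated (X ↘ Spec (CommRingCat.of k))] (W : X.Opens) (t e : Γ(X, W)) :
    wdg (Omega.sheaf (X ↘ Spec (CommRingCat.of k))) W (dSec W (t * e)) (dSec W e) =
      e • wdg (Omega.sheaf (X ↘ Spec (CommRingCat.of k))) W (dSec W t) (dSec W e) := by
  rw [dSec_mul, wdg_add, wdg_smul, wdg_smul, wdg_self, smul_zero, zero_add]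

end

variable {k : Type u} [Field k] [IsAlgClosed k] {X X' : Scheme.{u}} [X.Over (Spec (CommRingCat.of k))]
  [X'.Over (Spec (CommRingCat.of k))] [IsProper (X ↘ Spec (CommRingCat.of k))]
  (hdim : ∀ Z ∈ irreducibleComponents (X : Type u), topologicalKrullDim Z = 2)
  (hreg : ∀ y : X, IsRegularLocalRing (X.presheaf.stalk y))
  {x : X} (hx : IsClosed ({x} : Set X)) {π : X' ⟶ X}
  (hb : BlowUp.IsBlowUp π (Scheme.IdealSheafData.vanishingIdeal ⟨{x}, hx⟩))
  (hπ : π ≫ (X ↘ Spec (CommRingCat.of k)) = X' ↘ Spec (CommRingCat.of k))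

local notation "fX" => X ↘ Spec (CommRingCat.of k)
local notation "fX'" => X' ↘ Spec (CommRingCat.of k)

omit [IsAlgClosed k] [IsProper (X ↘ Spec (CommRingCat.of k))] in
include hπ in
/-- Constants pull back to constants. -/
theorem appLE_const {U : X.Opens} {P : X'.Opens} (e : P ≤ π ⁻¹ᵁ U) (c : Γ(Spec (CommRingCat.of k), ⊤)) :
    π.appLE U P e ((fX).appLE ⊤ U (le_preimage_specTop U) c) = (fX').appLE ⊤ P (le_preimage_specTop P) c := by
  rw [← CommRingCat.comp_apply, Scheme.Hom.appLE_comp_appLE]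
  simp only [hπ]

include hdim hreg hb hπ in
/-- Adjusted parameters at a point of the exceptional curve. -/
theorem exists_adjusted {y : X'} (hy : π y = x) (hyc : IsClosed ({y} : Set X')) :
    ∃ (U : X.Opens) (_ : IsAffineOpen U) (hxU : x ∈ U) (a b : Γ(X, U)) (P : X'.Opens) (hle : P ≤ π ⁻¹ᵁ U)
      (_ : IsAffineOpen P) (hyP : y ∈ P) (t : Γ(X', P)),
      maximalIdeal (X.presheaf.stalk x) = Ideal.span {X.presheaf.germ U x hxU a, X.presheaf.germ U x hxU b} ∧
      π.appLE U P hle a = t * π.appLE U P hle b ∧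
      maximalIdeal (X'.presheaf.stalk y) =
        Ideal.span {X'.presheaf.germ P y hyP t, X'.presheaf.germ P y hyP (π.appLE U P hle b)} ∧
      IntMult.stalkIdeal (BlowUp.exceptional π (Scheme.IdealSheafData.vanishingIdeal ⟨{x}, hx⟩)) y =
        Ideal.span {X'.presheaf.germ P y hyP (π.appLE U P hle b)} := by
  have := isProper_over k hx hb hπ
  have := hreg x
  have hA := ringKrullDim_stalk_closedPoint k hdim hx
  obtain ⟨P', p, q, hp, hlift, hbij, hsq, hqinj, hgerm⟩ := exists_localModel hx hb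
  obtain ⟨z, rfl⟩ := hlift y hy
  obtain ⟨T⟩ := nonempty_atlas_of_isBlowUp hp
  obtain ⟨a₀, b₀, hab₀⟩ := exists_param (hA := hA)
  obtain ⟨α, β, hαβ, hdvd⟩ : ∃ α β, Param hA α β ∧
      ∀ r ∈ maximalIdeal (X.presheaf.stalk x), ptMap p z β ∣ ptMap p z r := by
    rcases generated_by_param hab₀ T z with h | h
    · exact ⟨a₀, b₀, hab₀, h⟩
    · exact ⟨b₀, a₀, hab₀.symm, h⟩
  obtain ⟨Uα, hxUα, sα, rfl⟩ := TopCat.Presheaf.exists_germ_eq X.presheaf α
  obtain ⟨Uβ, hxUβ, sβ, rfl⟩ := TopCat.Presheaf.exists_germ_eq X.presheaf β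
  obtain ⟨U, hU, hxU, hUle⟩ := exists_isAffineOpen_mem_and_subset (U := Uα ⊓ Uβ) ⟨hxUα, hxUβ⟩
  let a₁ := resX X (show U ≤ Uα from fun v hv => (hUle hv).1) sα
  let b₁ := resX X (show U ≤ Uβ from fun v hv => (hUle hv).2) sβ
  have hga : X.presheaf.germ U x hxU a₁ = X.presheaf.germ Uα x hxUα sα :=
    TopCat.Presheaf.germ_res_apply X.presheaf (homOfLE _) x hxU sα
  have hgb : X.presheaf.germ U x hxU b₁ = X.presheaf.germ Uβ x hxUβ sβ :=
    TopCat.Presheaf.germ_res_apply X.presheaf (homOfLE _) x hxU sβ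
  rw [← hga, ← hgb] at hαβ
  rw [← hgb] at hdvd
  obtain ⟨d, hd⟩ := hdvd _ hαβ.mem_left
  let Θ : X'.presheaf.stalk (q z) ≃+* P'.presheaf.stalk z := RingEquiv.ofBijective (q.stalkMap z).hom (hbij z)
  obtain ⟨Pt, hyPt, t₀, ht₀⟩ := TopCat.Presheaf.exists_germ_eq X'.presheaf (Θ.symm d)
  have hzU : q z ∈ π ⁻¹ᵁ U := show π (q z) ∈ U from hy ▸ hxU
  obtain ⟨P, hP, hyP, hPle⟩ := exists_isAffineOpen_mem_and_subset (U := Pt ⊓ π ⁻¹ᵁ U) ⟨hyPt, hzU⟩
  have hle : P ≤ π ⁻¹ᵁ U := fun v hv => (hPle hv).2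
  have hpt : ∀ s : Γ(X, U), Θ (X'.presheaf.germ P (q z) hyP (π.appLE U P hle s)) =
      ptMap p z (X.presheaf.germ U x hxU s) := fun s => by
    refine (congrArg Θ ?_).trans (hgerm z U hxU hzU s).symm
    exact TopCat.Presheaf.germ_res_apply X'.presheaf (homOfLE hle) (q z) hyP (π.app U s)
  let t₁ := resX X' (show P ≤ Pt from fun v hv => (hPle hv).1) t₀
  have ht₁ : Θ (X'.presheaf.germ P (q z) hyP t₁) = d := by
    rw [show X'.presheaf.germ P (q z) hyP t₁ = Θ.symm d from
      (TopCat.Presheaf.germ_res_apply X'.presheaf (homOfLE _) (q z) hyP t₀).trans ht₀, RingEquiv.apply_symm_apply]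
  obtain ⟨c, hc⟩ := exists_const (k := k) hyc hyP t₁
  let cU : Γ(X, U) := (fX).appLE ⊤ U (le_preimage_specTop U) c
  let cP : Γ(X', P) := (fX').appLE ⊤ P (le_preimage_specTop P) c
  have hcP : π.appLE U P hle cU = cP := appLE_const hπ hle c
  let a₂ : Γ(X, U) := a₁ - cU * b₁
  let t : Γ(X', P) := t₁ - cP
  have hspan₂ : maximalIdeal (X.presheaf.stalk x) =
      Ideal.span {X.presheaf.germ U x hxU a₂, X.presheaf.germ U x hxU b₁} := by
    rw [hαβ.span_eq]
    refine le_antisymm (Ideal.span_le.2 ?_) (Ideal.span_le.2 ?_)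
    · refine Set.insert_subset_iff.2 ⟨?_, Set.singleton_subset_iff.2 (Ideal.subset_span (by simp))⟩
      refine Ideal.mem_span_pair.2 ⟨1, X.presheaf.germ U x hxU cU, ?_⟩
      rw [one_mul, map_sub, map_mul]; ring
    · refine Set.insert_subset_iff.2 ⟨?_, Set.singleton_subset_iff.2 (Ideal.subset_span (by simp))⟩
      refine Ideal.mem_span_pair.2 ⟨1, -X.presheaf.germ U x hxU cU, ?_⟩
      rw [one_mul, map_sub, map_mul]; ring
  have h₂ : Param hA (X.presheaf.germ U x hxU a₂) (X.presheaf.germ U x hxU b₁) := ⟨hspan₂⟩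
  have ht : Θ (X'.presheaf.germ P (q z) hyP t) = d - ptMap p z (X.presheaf.germ U x hxU cU) := by
    rw [map_sub, map_sub, ht₁, ← hpt, hcP]
  have hrel : ptMap p z (X.presheaf.germ U x hxU a₂) =
      Θ (X'.presheaf.germ P (q z) hyP t) * ptMap p z (X.presheaf.germ U x hxU b₁) := by
    rw [ht, map_sub, map_sub, map_mul, map_mul, hd]; ring
  have hEz : (IntMult.stalkIdeal (BlowUp.exceptional π (Scheme.IdealSheafData.vanishingIdeal ⟨{x}, hx⟩))
      (q z)).map (q.stalkMap z).hom = Ideal.span {ptMap p z (X.presheaf.germ U x hxU b₁)} := by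
    rw [map_stalkIdeal_comap hgerm _ z hy, ParaFormal.stalkIdeal_eq _ ⟨U, hU⟩ hxU,
      map_germ_vanishingIdeal hx ⟨U, hU⟩ hxU]
    exact le_antisymm (Ideal.map_le_iff_le_comap.2 fun s hs => Ideal.mem_span_singleton.2 (hdvd s hs))
      ((Ideal.span_singleton_le_iff_mem _).2 (Ideal.mem_map_of_mem _ hαβ.mem_right))
  have hEy : IntMult.stalkIdeal (BlowUp.exceptional π (Scheme.IdealSheafData.vanishingIdeal ⟨{x}, hx⟩)) (q z) =
      Ideal.span {X'.presheaf.germ P (q z) hyP (π.appLE U P hle b₁)} := by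
    have h1 := congrArg (Ideal.comap (q.stalkMap z).hom) hEz
    rw [Ideal.comap_map_of_bijective _ (hbij z), ← hpt, show Ideal.span {Θ (X'.presheaf.germ P (q z) hyP
      (π.appLE U P hle b₁))} = (Ideal.span {X'.presheaf.germ P (q z) hyP (π.appLE U P hle b₁)}).map
      (q.stalkMap z).hom from by rw [Ideal.map_span, Set.image_singleton]; rfl,
      Ideal.comap_map_of_bijective _ (hbij z)] at h1
    exact h1
  have hreg' := isRegular_blowUp k hdim hx hb hreg (q z)
  haveI := Groth.Ega4Algebra1.isDomain_of_isRegularLocalRing (X'.presheaf.stalk (q z))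
  have hb0 : X'.presheaf.germ P (q z) hyP (π.appLE U P hle b₁) ≠ 0 := by
    intro h0
    obtain ⟨W, hW, g, hg, hgI⟩ := hb.1 (q z)
    rw [ParaFormal.stalkIdeal_eq _ W hW] at hEy
    erw [hgI] at hEy
    rw [Ideal.map_span, Set.image_singleton, h0, Ideal.span_singleton_eq_bot.2 rfl,
      Ideal.span_singleton_eq_bot] at hEy
    let _ := TopCat.Presheaf.algebra_section_stalk X'.presheaf ⟨q z, hW⟩
    haveI := W.2.isLocalization_stalk ⟨q z, hW⟩
    exact nonZeroDivisors.ne_zero (IsLocalization.map_nonZeroDivisors_le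
      (W.2.primeIdealOf ⟨q z, hW⟩).asIdeal.primeCompl (X'.presheaf.stalk (q z)) ⟨g, hg, rfl⟩) hEy
  have hbm : ptMap p z (X.presheaf.germ U x hxU b₁) ∈ maximalIdeal (P'.presheaf.stalk z) := by
    have hmem := (mem_support_exceptional hx (q z)).2 hy
    rw [mem_support_iff_stalkIdeal, hEy, Ne, Ideal.span_singleton_eq_top] at hmem
    rw [← hpt]
    exact fun hu => hmem (by simpa using hu.map Θ.symm)
  have hsmall : ∀ r ∈ maximalIdeal (X.presheaf.stalk x), ptMap p z r ∈ maximalIdeal (P'.presheaf.stalk z) := by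
    intro r hr
    obtain ⟨e, he⟩ := hdvd r hr
    rw [he]
    exact Ideal.mul_mem_right _ _ hbm
  have htm : Θ (X'.presheaf.germ P (q z) hyP t) ∈ maximalIdeal (P'.presheaf.stalk z) :=
    fun hu => hc (by simpa [t, map_sub] using hu.map Θ.symm)
  obtain ⟨z₀, -, huniq, ⟨d₀, hd₀, hm₀⟩, -⟩ := exists_direction h₂ T
  obtain rfl := huniq z hsmall _ htm hrel
  have : IsRegularLocalRing (P'.presheaf.stalk z) := IsRegularLocalRing.of_ringEquiv Θ
  haveI := Groth.Ega4Algebra1.isDomain_of_isRegularLocalRing (P'.presheaf.stalk z)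
  obtain rfl : d₀ = Θ (X'.presheaf.germ P (q z) hyP t) :=
    mul_right_cancel₀ (fun h0 => hb0 (Θ.injective (by rw [hpt, h0, map_zero]))) (hd₀.symm.trans hrel)
  have hmy : maximalIdeal (X'.presheaf.stalk (q z)) =
      Ideal.span {X'.presheaf.germ P (q z) hyP t, X'.presheaf.germ P (q z) hyP (π.appLE U P hle b₁)} := by
    refine Ideal.ext fun s => ?_
    have h1 : s ∈ maximalIdeal (X'.presheaf.stalk (q z)) ↔ Θ s ∈ maximalIdeal (P'.presheaf.stalk z) :=
      not_congr (isUnit_map_iff Θ s).symm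
    rw [h1, hm₀, ← hpt, Ideal.mem_span_pair, Ideal.mem_span_pair]
    constructor
    · rintro ⟨u, v, huv⟩
      exact ⟨Θ.symm u, Θ.symm v, Θ.injective (by simpa using huv)⟩
    · rintro ⟨u, v, huv⟩
      exact ⟨Θ u, Θ v, by rw [← map_mul, ← map_mul, ← map_add, huv]⟩
  have hgerm_eq : X'.presheaf.germ P (q z) hyP (π.appLE U P hle a₂) =
      X'.presheaf.germ P (q z) hyP (t * π.appLE U P hle b₁) := Θ.injective (by
    rw [hpt, hrel, map_mul, map_mul, hpt])
  obtain ⟨W, hyW, i₁, i₂, he⟩ := TopCat.Presheaf.germ_eq X'.presheaf (q z) hyP hyP _ _ hgerm_eq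
  obtain rfl : i₁ = i₂ := Subsingleton.elim _ _
  obtain ⟨W', hW', hyW', hW'le⟩ := exists_isAffineOpen_mem_and_subset (U := W) hyW
  have hW'P : W' ≤ P := fun v hv => i₁.le (hW'le hv)
  have hres : ∀ s : Γ(X, U), π.appLE U W' (hW'P.trans hle) s = resX X' hW'P (π.appLE U P hle s) := fun s => by
    rw [← Scheme.Hom.appLE_map π hle (homOfLE hW'P).op]
    rfl
  have hgW : ∀ s : Γ(X', P), X'.presheaf.germ W' (q z) hyW' (resX X' hW'P s) = X'.presheaf.germ P (q z) hyP s :=
    fun s => TopCat.Presheaf.germ_res_apply X'.presheaf (homOfLE hW'P) (q z) hyW' s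
  refine ⟨U, hU, hxU, a₂, b₁, W', hW'P.trans hle, hW', hyW', resX X' hW'P t, hspan₂, ?_, ?_, ?_⟩
  · have he' : resX X' i₁.le (π.appLE U P hle a₂) = resX X' i₁.le (t * π.appLE U P hle b₁) := he
    have e := congrArg (resX X' (show W' ≤ W from hW'le)) he'
    rw [resX_resX, resX_resX, map_mul] at e
    rw [hres, hres]
    exact e
  · rw [hres, hgW, hgW, hmy]
  · rw [hres, hgW, hEy]

omit [IsAlgClosed k] in
include hdim in
/-- The differentials of a smooth surface have rank two. -/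
theorem rank_omega [Smooth (X ↘ Spec (CommRingCat.of k))] :
    FlatMod.IsFinLocFreeOfRank 2 (Omega.sheaf (X ↘ Spec (CommRingCat.of k))) := fun y => by
  obtain ⟨U, n, hyU, hfree, hn⟩ := OmegaSheaf.exists_free_of_mem_smoothLocus
    (OmegaSheaf.isUniversal_dOmega (X ↘ Spec (CommRingCat.of k)))
    (x := y) (by rw [Scheme.Hom.smoothLocus_eq_top]; trivial)
  have h2 : FlatMor.fibreDimAt fX y = ((2 : ℕ) : WithBot ℕ∞) := by
    refine Flatmor4.fibreDimAt_eq_of_component_dims fX (fun q Z hZ => ?_) y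
    have huniv : ((fX).base ⁻¹' {q}) = Set.univ :=
      Set.eq_univ_of_forall fun v => Subsingleton.elim ((fX) v) q
    let e : ((fX).base ⁻¹' {q}) ≃ₜ X := (Homeomorph.setCongr huniv).trans (Homeomorph.Set.univ X)
    have hZ' : e '' Z ∈ irreducibleComponents (X : Type u) := by
      refine ⟨hZ.1.image _ e.continuous.continuousOn, fun T hT hsub => ?_⟩
      have h1 : Z ⊆ e ⁻¹' T := fun a ha => hsub ⟨a, ha, rfl⟩
      have h2 : IsIrreducible (e ⁻¹' T) := by rw [← e.image_symm]; exact hT.image _ e.symm.continuous.continuousOn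
      intro t ht
      exact ⟨e.symm t, hZ.2 h2 h1 (by simpa using ht), e.apply_symm_apply t⟩
    exact ((e.isEmbedding.homeomorphImage Z).isHomeomorph.topologicalKrullDim_eq).trans (hdim _ hZ')
  rw [hn] at h2
  obtain rfl : n = 2 := by exact_mod_cast h2
  exact ⟨U, hyU, hfree⟩

section

variable [Smooth (X ↘ Spec (CommRingCat.of k))] [IsProper (X' ↘ Spec (CommRingCat.of k))]
  [Smooth (X' ↘ Spec (CommRingCat.of k))]

include hdim hreg hb hπ in
/-- Locally the pullback of a top form is the equation of the exceptional curve times a top form. -/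
theorem exists_local (c : (Scheme.Modules.pullback π).obj (Omega.sheaf fX) ⟶ Omega.sheaf fX')
    (hc : OmegaSh.IsDiffCompat π (OmegaSh.dOmega fX) (OmegaSh.dOmega fX') c) {y : X'}
    (hyc : IsClosed ({y} : Set X')) :
    ∃ (W : X'.Opens) (w : Γ((Scheme.Modules.pullback π).obj (extPow 2 (Omega.sheaf fX)), W))
      (v : Γ(extPow 2 (Omega.sheaf fX'), W))
      (kE : Γ(ClSub.idealMod (BlowUp.exceptional π (Scheme.IdealSheafData.vanishingIdeal ⟨{x}, hx⟩)), W)),
      y ∈ W ∧ Gen _ W w ∧ Gen _ W v ∧ Gen _ W kE ∧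
      (pullExtHom π 2 (Omega.sheaf fX) ≫ extHom 2 c).app W w =
        OmegaSh.idealSect (BlowUp.exceptional π (Scheme.IdealSheafData.vanishingIdeal ⟨{x}, hx⟩)) W kE • v := by
  have := isProper_blowUp k hx hb
  have hdim' := dim_component k hdim hx hb hπ
  set E := BlowUp.exceptional π (Scheme.IdealSheafData.vanishingIdeal (⟨{x}, hx⟩ : Closeds X)) with hEdef
  have hLX : PicF.IsInvertible (extPow 2 (Omega.sheaf fX)) :=
    isInvertible_det (rank_omega hdim) (isExtPow_extPow 2 _)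
  have hLX' : PicF.IsInvertible (extPow 2 (Omega.sheaf fX')) :=
    isInvertible_det (rank_omega hdim') (isExtPow_extPow 2 _)
  have hxc : IsClosed ({π y} : Set X) := by
    have := π.isClosedMap _ hyc
    rwa [Set.image_singleton] at this
  -- the data
  obtain ⟨U, hU, hxU, a, b, P, hle, hP, hyP, t, e, hm, hte, hmy, hE⟩ :
      ∃ (U : X.Opens) (_ : IsAffineOpen U) (hxU : π y ∈ U) (a b : Γ(X, U)) (P : X'.Opens)
        (hle : P ≤ π ⁻¹ᵁ U) (hP : IsAffineOpen P) (hyP : y ∈ P) (t : Γ(X', P) × Γ(X', P)) (e : Γ(X', P)),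
        maximalIdeal (X.presheaf.stalk (π y)) = Ideal.span {X.presheaf.germ U _ hxU a, X.presheaf.germ U _ hxU b} ∧
        wdg (Omega.sheaf fX') P (dSec P (π.appLE U P hle a)) (dSec P (π.appLE U P hle b)) =
          e • wdg (Omega.sheaf fX') P (dSec P t.1) (dSec P t.2) ∧
        maximalIdeal (X'.presheaf.stalk y) =
          Ideal.span {X'.presheaf.germ P y hyP t.1, X'.presheaf.germ P y hyP t.2} ∧
        IntMult.stalkIdeal E y = Ideal.span {X'.presheaf.germ P y hyP e} := by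
    by_cases hy : π y = x
    · subst hy
      obtain ⟨U, hU, hxU, a, b, P, hle, hP, hyP, t, hm, hrel, hmy, hE⟩ :=
        exists_adjusted hdim hreg hx hb hπ rfl hyc
      refine ⟨U, hU, hxU, a, b, P, hle, hP, hyP, (t, π.appLE U P hle b), π.appLE U P hle b, hm, ?_, hmy, hE⟩
      rw [hrel, wdg_dSec_mul]
    · have := hreg (π y)
      obtain ⟨α, β, hαβ⟩ := exists_param (hA := ringKrullDim_stalk_closedPoint k hdim hxc)
      obtain ⟨Uα, hxUα, sα, rfl⟩ := TopCat.Presheaf.exists_germ_eq X.presheaf α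
      obtain ⟨Uβ, hxUβ, sβ, rfl⟩ := TopCat.Presheaf.exists_germ_eq X.presheaf β
      obtain ⟨U, hU, hxU, hUle⟩ := exists_isAffineOpen_mem_and_subset (U := Uα ⊓ Uβ) ⟨hxUα, hxUβ⟩
      let a := resX X (show U ≤ Uα from fun v hv => (hUle hv).1) sα
      let b := resX X (show U ≤ Uβ from fun v hv => (hUle hv).2) sβ
      obtain ⟨P, hP, hyP, hPle⟩ := exists_isAffineOpen_mem_and_subset (U := π ⁻¹ᵁ U) (x := y) hxU
      have hle : P ≤ π ⁻¹ᵁ U := hPle
      have hga : X.presheaf.germ U _ hxU a = X.presheaf.germ Uα _ hxUα sα :=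
        TopCat.Presheaf.germ_res_apply X.presheaf (homOfLE _) _ hxU sα
      have hgb : X.presheaf.germ U _ hxU b = X.presheaf.germ Uβ _ hxUβ sβ :=
        TopCat.Presheaf.germ_res_apply X.presheaf (homOfLE _) _ hxU sβ
      have hmU := hαβ.span_eq
      rw [← hga, ← hgb] at hmU
      refine ⟨U, hU, hxU, a, b, P, hle, hP, hyP, (π.appLE U P hle a, π.appLE U P hle b), 1, hmU,
        (one_smul _ _).symm, ?_, ?_⟩
      · have := Groth.Divisors.isIso_stalkMap_off hb y
          (fun h => hy ((Set.ext_iff.1 (support_point hx) (π y)).1 h))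
        let Ψ := (asIso (π.stalkMap y)).commRingCatIsoToRingEquiv
        have hg : ∀ s : Γ(X, U), Ψ (X.presheaf.germ U _ hxU s) =
            X'.presheaf.germ P y hyP (π.appLE U P hle s) := fun s => by
          refine (Scheme.Hom.germ_stalkMap_apply π U y hxU s).trans ?_
          exact (TopCat.Presheaf.germ_res_apply X'.presheaf (homOfLE hle) y hyP (π.app U s)).symm
        refine Ideal.ext fun s => ?_
        have h1 : s ∈ maximalIdeal (X'.presheaf.stalk y) ↔ Ψ.symm s ∈ maximalIdeal (X.presheaf.stalk (π y)) :=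
          not_congr (isUnit_map_iff Ψ.symm s).symm
        rw [h1, hmU, Ideal.mem_span_pair, Ideal.mem_span_pair]
        constructor
        · rintro ⟨u, v, huv⟩
          exact ⟨Ψ u, Ψ v, Ψ.symm.injective (by rw [← hg, ← hg, ← map_mul, ← map_mul, ← map_add, Ψ.symm_apply_apply, huv])⟩
        · rintro ⟨u, v, huv⟩
          exact ⟨Ψ.symm u, Ψ.symm v, Ψ.injective (by rw [map_add, map_mul, map_mul, Ψ.apply_symm_apply, Ψ.apply_symm_apply, hg, hg, huv, Ψ.apply_symm_apply])⟩
      · rw [map_one, Ideal.span_singleton_one]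
        exact by_contra fun h => hy ((mem_support_exceptional hx y).1 ((mem_support_iff_stalkIdeal _ y).2 h))
  -- generators
  obtain ⟨W₀, hW₀, hxW₀, hg₀⟩ := exists_gen_wdg (k := k) hLX hxc hU hxU a b hm
  obtain ⟨W₁, hW₁, hyW₁, hg₁⟩ := exists_gen_wdg (k := k) hLX' hyc hP hyP t.1 t.2 hmy
  obtain ⟨W₂, hyW₂, -, kE, hkE, hnzd, hgI⟩ := exists_gen_idealMod hb.1 y ⊤ trivial
  have hspan := hE.symm
  rw [ParaFormal.stalkIdeal_eq E W₂ hyW₂] at hspan
  erw [hgI] at hspan
  rw [Ideal.map_span, Set.image_singleton] at hspan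
  have := isRegular_blowUp k hdim hx hb hreg y
  haveI := Groth.Ega4Algebra1.isDomain_of_isRegularLocalRing (X'.presheaf.stalk y)
  obtain ⟨μ, hμ⟩ := (Ideal.span_singleton_eq_span_singleton.1 hspan).symm
  obtain ⟨W₃, hW₃P, hW₃W, u, hyW₃, hu, hue⟩ := exists_unit_spread hyP hyW₂ e
    (OmegaSh.idealSect E W₂.1 kE) (μ : X'.presheaf.stalk y) μ.isUnit (by rw [mul_comm]; exact hμ.symm)
  let W : X'.Opens := W₁ ⊓ W₃ ⊓ π ⁻¹ᵁ W₀
  have h₁ : W ≤ W₁ := inf_le_left.trans inf_le_left
  have h₃ : W ≤ W₃ := inf_le_left.trans inf_le_right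
  have h₀ : W ≤ π ⁻¹ᵁ W₀ := inf_le_right
  have hWP : W ≤ P := h₁.trans hW₁
  let m := wdg (Omega.sheaf fX) U (dSec U a) (dSec U b)
  refine ⟨W, res _ h₀ (pullSec π _ (res _ hW₀ m)),
    resX X' h₃ u • res _ hWP (wdg (Omega.sheaf fX') P (dSec P t.1) (dSec P t.2)),
    res _ (h₃.trans hW₃W) kE, ⟨⟨hyW₁, hyW₃⟩, hxW₀⟩, (hg₀.pull π).res h₀, ?_, hkE.res _, ?_⟩
  · refine Gen.smul_unit ?_ (hu.map _)
    have := hg₁.res h₁
    rwa [res_res] at this
  · rw [← res_pullSec, res_res]
    change (extHom 2 c).app W ((pullExtHom π 2 (Omega.sheaf fX)).app W _) = _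
    rw [show m = wedge 2 (Omega.sheaf fX) ![dSec U a, dSec U b] from rfl, pullExtHom_res_pullSec,
      extHom_wedge]
    have hd : ∀ s, c.app W (res _ (h₀.trans (π.preimage_mono hW₀)) (pullSec π (Omega.sheaf fX) (dSec U s))) =
        res (Omega.sheaf fX') hWP (dSec P (π.appLE U P hle s)) := fun s => by
      refine (isDiffCompat_res hc (h₀.trans (π.preimage_mono hW₀)) s).trans ?_
      rw [res_dSec]
      refine congrArg (dSec W) ?_
      rw [← Scheme.Hom.appLE_map π hle (homOfLE hWP).op]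
      rfl
    have hfun : (fun j => c.app W (res _ (h₀.trans (π.preimage_mono hW₀))
        (pullSec π (Omega.sheaf fX) (![dSec U a, dSec U b] j)))) =
        ![res (Omega.sheaf fX') hWP (dSec P (π.appLE U P hle a)),
          res (Omega.sheaf fX') hWP (dSec P (π.appLE U P hle b))] := funext fun j => by
      fin_cases j
      · exact hd a
      · exact hd b
    rw [hfun]
    change wdg (Omega.sheaf fX') W _ _ = _
    rw [← res_wdg, hte, res_smul, idealSect_res', smul_smul]
    congr 1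
    have e1 := congrArg (resX X' h₃) hue
    rw [resX_resX, map_mul, resX_resX] at e1
    rw [e1, mul_comm]

include hdim hreg hb hπ in
/-- The canonical module of the blow-up. -/
theorem nonempty_canonical :
    Nonempty ((Scheme.Modules.pullback π).obj (extPow 2 (Omega.sheaf fX)) ≅
      CohB1.tensorMod (extPow 2 (Omega.sheaf fX'))
        (ClSub.idealMod (BlowUp.exceptional π (Scheme.IdealSheafData.vanishingIdeal ⟨{x}, hx⟩)))) := by
  have := isProper_blowUp k hx hb
  have := Inter.isNoetherian k (X := X')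
  set E := BlowUp.exceptional π (Scheme.IdealSheafData.vanishingIdeal (⟨{x}, hx⟩ : Closeds X))
  obtain ⟨c, hc, -⟩ := existsUnique_isDiffCompat (d₂ := OmegaSh.dOmega fX')
    (OmegaSheaf.isUniversal_dOmega fX) (show π ≫ fX = fX' ≫ 𝟙 _ by rw [Category.comp_id, hπ])
  let α := pullExtHom π 2 (Omega.sheaf fX) ≫ extHom 2 c
  have hloc : ∀ y : X', ∃ (W : X'.Opens) (w : Γ((Scheme.Modules.pullback π).obj (extPow 2 (Omega.sheaf fX)), W))
      (v : Γ(extPow 2 (Omega.sheaf fX'), W)) (kE : Γ(ClSub.idealMod E, W)),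
      y ∈ W ∧ Gen _ W w ∧ Gen _ W v ∧ Gen _ W kE ∧ α.app W w = OmegaSh.idealSect E W kE • v := fun y => by
    obtain ⟨z, hz, hzc⟩ := IsClosed.exists_closed_singleton (isClosed_closure (s := ({y} : Set X')))
      ⟨y, subset_closure rfl⟩
    obtain ⟨W, w, v, kE, hzW, h⟩ := exists_local hdim hreg hx hb hπ c hc hzc
    exact ⟨W, w, v, kE, (specializes_iff_mem_closure.2 hz).mem_open W.2 hzW, h⟩
  choose W w v kE hyW hw hv hk hα using hloc
  have hcov : iSup W = ⊤ := eq_top_iff.2 fun y _ => Opens.mem_iSup.2 ⟨y, hyW y⟩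
  obtain ⟨φ, -⟩ := exists_iso_of_gen hcov w hw (fun y => tmulSec (v y) (kE y))
    (fun y => (hv y).tensor (hk y)) fun i j r hr => by
    obtain ⟨q, hq⟩ := (hk j).exists_coeff inf_le_right
      (res _ (inf_le_left : W i ⊓ W j ≤ W i) (kE i))
    obtain ⟨p, hp⟩ := (hv j).exists_coeff inf_le_right
      (res _ (inf_le_left : W i ⊓ W j ≤ W i) (v i))
    have e1 := congrArg (α.app (W i ⊓ W j)) hr
    rw [Scheme.Modules.Hom.app_smul, app_res, app_res, hα, hα, res_smul, res_smul, ← idealSect_res',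
      ← idealSect_res', hp, hq, Groth.OmegaSheaf.idealSect_smul, smul_smul, smul_smul] at e1
    have e2 := (hv j).smul_inj inf_le_right e1
    have e3 : q * p = r := by
      refine (hk j).smul_inj inf_le_right (Groth.OmegaSheaf.idealSect_injective _ _ ?_)
      rw [Groth.OmegaSheaf.idealSect_smul, Groth.OmegaSheaf.idealSect_smul]
      linear_combination e2
    rw [res_tmulSec, res_tmulSec, hp, hq, tmulSec_smul_left, tmulSec_smul_right, smul_smul, ← e3, mul_comm]
  exact ⟨φ⟩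

end

end Groth.PointBlowUp
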