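import Groth.Agent.PointBlowUp.Local
import Groth.Agent.S1680
import Groth.Agent.Calg4.SmoothDescPoint
import Groth.Agent.Divisors.BlowUpBasic

/-!
# The blow-up of a surface in a closed point, near the exceptional divisor
-/

set_option autoImplicit false
set_option backward.isDefEq.respectTransparency.types false
universe u

open CategoryTheory CategoryTheory.Limits AlgebraicGeometry IsLocalRing TopologicalSpace

namespace Groth.PointBlowUp

open Groth.BlowUpBasics

variable {X X' : Scheme.{u}} {x : X} (hx : IsClosed ({x} : Set X))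

/-- The ideal sheaf of a closed point in a chart. -/
theorem map_germ_vanishingIdeal (U : X.affineOpens) (hxU : x ∈ U.1) :
    ((Scheme.IdealSheafData.vanishingIdeal ⟨{x}, hx⟩).ideal U).map (X.presheaf.germ U.1 x hxU).hom =
      maximalIdeal (X.presheaf.stalk x) := by
  let _ := TopCat.Presheaf.algebra_section_stalk X.presheaf ⟨x, hxU⟩
  have := U.2.isLocalization_stalk ⟨x, hxU⟩
  have hpre : U.2.fromSpec ⁻¹' ({x} : Set X) = {U.2.primeIdealOf ⟨x, hxU⟩} := Set.ext fun q => by
    constructor
    · intro hq
      exact U.2.fromSpec.isOpenEmbedding.injective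
        ((Set.mem_singleton_iff.1 hq).trans (U.2.fromSpec_primeIdealOf ⟨x, hxU⟩).symm)
    · rintro rfl
      exact U.2.fromSpec_primeIdealOf ⟨x, hxU⟩
  rw [Scheme.IdealSheafData.vanishingIdeal_ideal]
  erw [hpre, PrimeSpectrum.vanishingIdeal_singleton]
  exact IsLocalization.AtPrime.map_eq_maximalIdeal (U.2.primeIdealOf ⟨x, hxU⟩).asIdeal
    (X.presheaf.stalk x)

/-- The ideal of the closed point pulled back to the spectrum of the local ring. -/
theorem comap_fromSpecStalk :
    (Scheme.IdealSheafData.vanishingIdeal ⟨{x}, hx⟩).comap (X.fromSpecStalk x) =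
      sheafOf (maximalIdeal (X.presheaf.stalk x)) := by
  obtain ⟨U, hU, hxU, -⟩ := exists_isAffineOpen_mem_and_subset (U := (⊤ : X.Opens)) (x := x) trivial
  refine Scheme.IdealSheafData.ext_of_isAffine ?_
  have e : (⊤ : (Spec (X.presheaf.stalk x)).Opens) ≤ X.fromSpecStalk x ⁻¹ᵁ U := fun q _ => by
    have hq : X.fromSpecStalk x q ⤳ x := by
      have := (Set.ext_iff.1 (X.range_fromSpecStalk (x := x)) (X.fromSpecStalk x q)).1 ⟨q, rfl⟩
      exact this
    exact hq.mem_open U.2 hxU
  rw [ideal_comap (X.fromSpecStalk x) _ ⟨U, hU⟩ ⟨⊤, isAffineOpen_top _⟩ e, sheafOf_ideal_top,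
    ← map_germ_vanishingIdeal hx ⟨U, hU⟩ hxU, Ideal.map_map, ← CommRingCat.hom_comp]
  congr 2
  rw [Scheme.Hom.appLE, Scheme.fromSpecStalk_app hxU, Category.assoc, Category.assoc, ← Functor.map_comp]
  erw [CategoryTheory.Functor.map_id, Category.comp_id]
  rfl

variable {π : X' ⟶ X} (hb : BlowUp.IsBlowUp π (Scheme.IdealSheafData.vanishingIdeal ⟨{x}, hx⟩))

include hb in
/-- The blow-up of the spectrum of the local ring, and its points over the closed point. -/
theorem exists_localModel :
    ∃ (P : Scheme.{u}) (p : P ⟶ Spec (CommRingCat.of (X.presheaf.stalk x))) (q : P ⟶ X'),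
      BlowUp.IsBlowUp p (sheafOf (maximalIdeal (X.presheaf.stalk x))) ∧
      (∀ y, π y = x → ∃ z, q z = y) ∧ (∀ z, Function.Bijective (q.stalkMap z)) ∧
      q ≫ π = p ≫ X.fromSpecStalk x ∧ Function.Injective q ∧
      (∀ (z : P) (U : X.Opens) (hxU : x ∈ U) (hz : q z ∈ π ⁻¹ᵁ U) (s : Γ(X, U)),
        ptMap p z (X.presheaf.germ U x hxU s) =
          q.stalkMap z (X'.presheaf.germ (π ⁻¹ᵁ U) (q z) hz (π.app U s))) := by
  have hflat := Groth.Calg4.flat_fromSpecStalk X x
  let g := X.fromSpecStalk x
  have hI := Groth.Agent.S1680.result g _ π hb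
  rw [comap_fromSpecStalk hx] at hI
  refine ⟨pullback g π, pullback.fst g π, pullback.snd g π, hI, fun y hy => ?_, fun z => ?_,
    pullback.condition.symm, (pullback.snd g π).isEmbedding.injective, ?_⟩
  · obtain ⟨z, -, hz⟩ := Scheme.Pullback.exists_preimage_pullback (f := g) (g := π)
      (closedPoint (X.presheaf.stalk x)) y (Scheme.fromSpecStalk_closedPoint.trans hy.symm)
    exact ⟨z, hz⟩
  · refine ⟨?_, (pullback.snd g π).stalkMap_surjective z⟩
    have hf : Flat (pullback.snd g π) := inferInstance
    let _ := ((pullback.snd g π).stalkMap z).hom.toAlgebra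
    have : Module.Flat (X'.presheaf.stalk (pullback.snd g π z)) ((pullback g π).presheaf.stalk z) :=
      Flat.stalkMap (pullback.snd g π) z
    have : IsLocalHom (algebraMap (X'.presheaf.stalk (pullback.snd g π z))
        ((pullback g π).presheaf.stalk z)) :=
      inferInstanceAs (IsLocalHom ((pullback.snd g π).stalkMap z).hom)
    have : Module.FaithfullyFlat (X'.presheaf.stalk (pullback.snd g π z))
        ((pullback g π).presheaf.stalk z) := Module.FaithfullyFlat.of_flat_of_isLocalHom
    exact FaithfulSMul.algebraMap_injective (X'.presheaf.stalk (pullback.snd g π z))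
      ((pullback g π).presheaf.stalk z)
  · intro z U hxU hz s
    erw [Scheme.Hom.germ_stalkMap_apply]
    let e := Scheme.Hom.congr_app (pullback.condition (f := g) (g := π)).symm U
    have e2 := ConcreteCategory.congr_hom e s
    simp only [Scheme.Hom.comp_app, CommRingCat.comp_apply] at e2
    erw [e2]
    erw [TopCat.Presheaf.germ_res_apply]
    erw [show g.app U = _ from Scheme.fromSpecStalk_app hxU]
    simp only [CommRingCat.comp_apply]
    have hn := ConcreteCategory.congr_hom ((pullback.fst g π).naturality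
      (homOfLE (le_top : g ⁻¹ᵁ U ≤ ⊤)).op) ((Scheme.ΓSpecIso (X.presheaf.stalk x)).inv
        (X.presheaf.germ U x hxU s))
    simp only [CommRingCat.comp_apply] at hn
    erw [hn]
    erw [TopCat.Presheaf.germ_res_apply]
    rfl

end Groth.PointBlowUp
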