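import Groth.Agent.PointBlowUp.Algebra
import Groth.Agent.BlowUpBasics.AtlasOf
import Groth.Agent.S1622

/-!
# The points over the closed point of the blow-up of a two-dimensional regular local ring
-/

set_option autoImplicit false
set_option backward.isDefEq.respectTransparency.types false
universe u

open CategoryTheory AlgebraicGeometry IsLocalRing

namespace Groth.PointBlowUp

open Groth.BlowUpBasics

variable {A : Type u} [CommRing A] {Y W : Scheme.{u}}

/-- The map from the base ring to the stalk at a point. -/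
noncomputable def ptMap (p : Y ⟶ Spec (CommRingCat.of A)) (z : Y) : A →+* Y.presheaf.stalk z :=
  ((Y.presheaf.germ ⊤ z trivial).hom.comp p.appTop.hom).comp (Scheme.ΓSpecIso (CommRingCat.of A)).inv.hom

theorem stalkMap_ptMap (j : W ⟶ Y) (p : Y ⟶ Spec (CommRingCat.of A)) (q : W ⟶ Spec (CommRingCat.of A))
    (h : j ≫ p = q) (w : W) (r : A) : j.stalkMap w (ptMap p (j w) r) = ptMap q w r := by
  subst h
  exact Scheme.Hom.germ_stalkMap_apply j ⊤ w trivial _

theorem ptMap_Spec {C : Type u} [CommRing C] (φ : A →+* C) (P : PrimeSpectrum C) (r : A) :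
    ptMap (Spec.map (CommRingCat.ofHom φ)) P r =
      algebraMap C ((Spec.structureSheaf C).presheaf.stalk P) (φ r) := by
  have h := ConcreteCategory.congr_hom (Scheme.ΓSpecIso_inv_naturality (CommRingCat.ofHom φ)) r
  simp only [ptMap, RingHom.coe_comp, Function.comp_apply]
  erw [← h]
  rfl

variable [IsRegularLocalRing A] {hA : ringKrullDim A = 2} {a b : A} {p : Y ⟶ Spec (CommRingCat.of A)}

local notation "𝔪" => maximalIdeal A

/-- On a chart. -/
theorem chart_apply (T : Atlas (maximalIdeal A) p) (c : maximalIdeal A)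
    (P : PrimeSpectrum (Chart (c : A))) (r : A) :
    (T.j c).stalkMap P (ptMap p (T.j c P) r) =
      algebraMap (Chart (c : A)) ((Spec.structureSheaf (Chart (c : A))).presheaf.stalk P)
        (algebraMap A (Chart (c : A)) r) :=
  (stalkMap_ptMap (T.j c) p _ (T.fac c) P r).trans (ptMap_Spec _ P r)

theorem algebraMap_nzd (c : maximalIdeal A) (P : PrimeSpectrum (Chart (c : A))) :
    algebraMap (Chart (c : A)) ((Spec.structureSheaf (Chart (c : A))).presheaf.stalk P)
      (algebraMap A (Chart (c : A)) (c : A)) ∈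
        nonZeroDivisors ((Spec.structureSheaf (Chart (c : A))).presheaf.stalk P) :=
  IsLocalization.map_nonZeroDivisors_le P.asIdeal.primeCompl _
    ⟨_, algebraMap_self_mem_nonZeroDivisors (I := maximalIdeal A) (a := (c : A)), rfl⟩

theorem chart_frac (c : maximalIdeal A) (x : A) (hx : x ∈ maximalIdeal A) :
    frac (maximalIdeal A) (c : A) x hx * algebraMap A (Chart (c : A)) (c : A) =
      algebraMap A (Chart (c : A)) x :=
  frac_mul_algebraMap x hx

/-- The pullback of the maximal ideal is generated by one of the parameters. -/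
theorem generated_by_param (h : Param hA a b) (T : Atlas (maximalIdeal A) p) (z : Y) :
    (∀ r ∈ maximalIdeal A, ptMap p z b ∣ ptMap p z r) ∨ ∀ r ∈ maximalIdeal A, ptMap p z a ∣ ptMap p z r := by
  obtain ⟨c, P, rfl⟩ := T.covers z
  let S := (Spec.structureSheaf (Chart (c : A))).presheaf.stalk P
  let Θ : Y.presheaf.stalk (T.j c P) ≃+* S := (asIso ((T.j c).stalkMap P)).commRingCatIsoToRingEquiv
  have hΘ : ∀ r, Θ (ptMap p (T.j c P) r) = algebraMap _ S (algebraMap A (Chart (c : A)) r) :=
    chart_apply T c P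
  let f := fun (x : A) hx => algebraMap (Chart (c : A)) S (frac (maximalIdeal A) (c : A) x hx)
  have hf : ∀ x hx, Θ (ptMap p (T.j c P) x) = f x hx * Θ (ptMap p (T.j c P) (c : A)) := fun x hx => by
    rw [hΘ, hΘ, ← map_mul, chart_frac]
  obtain ⟨u, v, huv⟩ := Ideal.mem_span_pair.mp (h.span_eq ▸ c.2 : (c : A) ∈ Ideal.span {a, b})
  have hone : Θ (ptMap p (T.j c P) u) * f a h.mem_left + Θ (ptMap p (T.j c P) v) * f b h.mem_right = 1 := by
    refine (mul_cancel_right_mem_nonZeroDivisors
      (show Θ (ptMap p (T.j c P) (c : A)) ∈ nonZeroDivisors S by rw [hΘ]; exact algebraMap_nzd c P)).1 ?_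
    rw [add_mul, mul_assoc, mul_assoc, ← hf, ← hf, one_mul]
    simp only [← map_mul, ← map_add, huv]
  haveI : IsLocalRing S := inferInstanceAs (IsLocalRing ((Spec (CommRingCat.of (Chart (c : A)))).presheaf.stalk P))
  have key : ∀ x hx, IsUnit (f x hx) → ∀ r ∈ maximalIdeal A, ptMap p (T.j c P) x ∣ ptMap p (T.j c P) r := by
    intro x hx hu r hr
    refine (map_dvd_iff Θ).1 ?_
    rw [hf x hx, hf r hr]
    exact mul_dvd_mul (hu.dvd) dvd_rfl
  rcases IsLocalRing.isUnit_or_isUnit_of_add_one hone with h1 | h1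
  · exact Or.inr (key a h.mem_left (isUnit_of_mul_isUnit_right h1))
  · exact Or.inl (key b h.mem_right (isUnit_of_mul_isUnit_right h1))

/-- The point of the exceptional line in the direction of `a`. -/
theorem exists_direction (h : Param hA a b) (T : Atlas (maximalIdeal A) p) :
    ∃ z₀ : Y, (∀ r ∈ maximalIdeal A, ptMap p z₀ r ∈ maximalIdeal (Y.presheaf.stalk z₀)) ∧
      (∀ z : Y, (∀ r ∈ maximalIdeal A, ptMap p z r ∈ maximalIdeal (Y.presheaf.stalk z)) →
        ∀ d ∈ maximalIdeal (Y.presheaf.stalk z), ptMap p z a = d * ptMap p z b → z = z₀) ∧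
      (∃ d, ptMap p z₀ a = d * ptMap p z₀ b ∧
        maximalIdeal (Y.presheaf.stalk z₀) = Ideal.span {d, ptMap p z₀ b}) ∧
      ∀ s : Y.presheaf.stalk z₀, ∃ r : A, s - ptMap p z₀ r ∈ maximalIdeal (Y.presheaf.stalk z₀) := by
  classical
  let β : maximalIdeal A := ⟨b, h.mem_right⟩
  let C := Chart (b : A)
  let τ : C := frac (maximalIdeal A) b a h.mem_left
  have hτ : h.symm.T = τ := rfl
  let ev : C →+* ResidueField A := (Polynomial.evalRingHom 0).comp
    (h.symm.excEquiv.toRingHom.comp (Ideal.Quotient.mk (Ideal.span {algebraMap A C b})))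
  have hev : ∀ g : Polynomial A, ev (Polynomial.aeval h.symm.T g) = residue A (g.coeff 0) := fun g => by
    change Polynomial.eval 0 (h.symm.excEquiv (Ideal.Quotient.mk _ (Polynomial.aeval h.symm.T g))) = _
    rw [h.symm.excEquiv_mk, ← Polynomial.coeff_zero_eq_eval_zero, Polynomial.coeff_map]
  have hevA : ∀ r, ev (algebraMap A C r) = residue A r := fun r => by
    have := hev (Polynomial.C r)
    rwa [Polynomial.aeval_C, Polynomial.coeff_C_zero] at this
  have hevτ : ev τ = 0 := by
    have := hev Polynomial.X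
    rw [Polynomial.aeval_X, Polynomial.coeff_X_zero, map_zero] at this
    exact this
  have hevb : ev (algebraMap A C b) = 0 := by rw [hevA]; exact (residue_eq_zero_iff _).2 h.mem_right
  have hsurj : Function.Surjective ev := fun s => by
    obtain ⟨r, rfl⟩ := residue_surjective s
    exact ⟨_, hevA r⟩
  let P : PrimeSpectrum C := ⟨RingHom.ker ev, RingHom.ker_isPrime ev⟩
  have hmax : P.asIdeal.IsMaximal := RingHom.ker_isMaximal_of_surjective ev hsurj
  have hker : P.asIdeal = Ideal.span {τ, algebraMap A C b} := by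
    refine le_antisymm (fun x hx => ?_) ?_
    · obtain ⟨g, rfl⟩ := h.symm.aeval_surjective x
      have hg : residue A (g.coeff 0) = 0 := (hev g).symm.trans hx
      obtain ⟨u, v, huv⟩ := Ideal.mem_span_pair.mp (h.span_eq ▸ (residue_eq_zero_iff _).1 hg :
        g.coeff 0 ∈ Ideal.span {a, b})
      rw [← Polynomial.X_mul_divX_add g, map_add, map_mul, Polynomial.aeval_X, Polynomial.aeval_C, ← huv,
        map_add, map_mul, map_mul, hτ]
      refine Ideal.mem_span_pair.mpr
        ⟨Polynomial.aeval τ g.divX + algebraMap A C u * algebraMap A C b, algebraMap A C v, ?_⟩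
      rw [show algebraMap A C a = τ * algebraMap A C b from (chart_frac β a h.mem_left).symm]
      ring
    · rw [Ideal.span_le, Set.insert_subset_iff, Set.singleton_subset_iff]
      exact ⟨hevτ, hevb⟩
  let S := (Spec.structureSheaf C).presheaf.stalk P
  haveI : IsLocalization.AtPrime S P.asIdeal :=
    AlgebraicGeometry.StructureSheaf.IsLocalization.to_stalk C P
  let Θ : Y.presheaf.stalk (T.j β P) ≃+* S := (asIso ((T.j β).stalkMap P)).commRingCatIsoToRingEquiv
  have hΘ : ∀ r, Θ (ptMap p (T.j β P) r) = algebraMap _ S (algebraMap A C r) := chart_apply T β P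
  haveI : IsLocalRing S := inferInstanceAs (IsLocalRing ((Spec (CommRingCat.of C)).presheaf.stalk P))
  have hmS : maximalIdeal S = P.asIdeal.map (algebraMap C S) :=
    (IsLocalization.AtPrime.map_eq_maximalIdeal P.asIdeal S).symm
  have hmem : ∀ s : Y.presheaf.stalk (T.j β P),
      s ∈ maximalIdeal (Y.presheaf.stalk (T.j β P)) ↔ Θ s ∈ maximalIdeal S := fun s => by
    simp [IsLocalRing.mem_maximalIdeal]
  refine ⟨T.j β P, fun r hr => ?_, fun z hz d hd hzd => ?_,
    ⟨Θ.symm (algebraMap C S τ), ?_, ?_⟩, fun s => ?_⟩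
  · rw [hmem, hΘ, hmS]
    exact Ideal.mem_map_of_mem _ (show ev (algebraMap A C r) = 0 by rw [hevA]; exact (residue_eq_zero_iff _).2 hr)
  · obtain ⟨c, Q, rfl⟩ := T.covers z
    let S' := (Spec.structureSheaf (Chart (c : A))).presheaf.stalk Q
    let Θ' : Y.presheaf.stalk (T.j c Q) ≃+* S' := (asIso ((T.j c).stalkMap Q)).commRingCatIsoToRingEquiv
    have hΘ' : ∀ r, Θ' (ptMap p (T.j c Q) r) = algebraMap _ S' (algebraMap A (Chart (c : A)) r) :=
      chart_apply T c Q
    have hnz : Θ' (ptMap p (T.j c Q) (c : A)) ∈ nonZeroDivisors S' := by rw [hΘ']; exact algebraMap_nzd c Q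
    set fb := algebraMap (Chart (c : A)) S' (frac (maximalIdeal A) (c : A) b h.mem_right)
    have hfb : Θ' (ptMap p (T.j c Q) b) = fb * Θ' (ptMap p (T.j c Q) (c : A)) := by
      rw [hΘ', hΘ', ← map_mul, chart_frac]
    obtain ⟨u, v, huv⟩ := Ideal.mem_span_pair.mp (h.span_eq ▸ c.2 : (c : A) ∈ Ideal.span {a, b})
    have hc : Θ' (ptMap p (T.j c Q) (c : A)) =
        (Θ' (ptMap p (T.j c Q) u) * Θ' d + Θ' (ptMap p (T.j c Q) v)) * Θ' (ptMap p (T.j c Q) b) := by
      refine (congrArg (fun x => Θ' (ptMap p (T.j c Q) x)) huv.symm).trans ?_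
      simp only [map_add, map_mul, hzd]
      ring
    have hu : IsUnit fb := by
      refine IsUnit.of_mul_eq_one (Θ' (ptMap p (T.j c Q) u) * Θ' d + Θ' (ptMap p (T.j c Q) v))
        ((mul_cancel_right_mem_nonZeroDivisors hnz).1 ?_)
      rw [one_mul]
      conv_rhs => rw [hc, hfb]
      ring
    have hQ : Q ∈ PrimeSpectrum.basicOpen (frac (maximalIdeal A) (c : A) b h.mem_right) :=
      (IsLocalization.AtPrime.isUnit_to_map_iff S' Q.asIdeal _).1 hu
    obtain ⟨P', hP'⟩ := T.overlap β c Q hQ
    clear hc hu hfb hnz hΘ'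
    revert hzd hd d hz
    rw [← hP']
    intro hz d hd hzd
    congr 1
    refine PrimeSpectrum.ext (hmax.eq_of_le P'.isPrime.ne_top ?_).symm
    let S'' := (Spec.structureSheaf C).presheaf.stalk P'
    let Θ'' : Y.presheaf.stalk (T.j β P') ≃+* S'' := (asIso ((T.j β).stalkMap P')).commRingCatIsoToRingEquiv
    haveI : IsLocalRing S'' := inferInstanceAs (IsLocalRing ((Spec (CommRingCat.of C)).presheaf.stalk P'))
    have hΘ'' : ∀ r, Θ'' (ptMap p (T.j β P') r) = algebraMap _ S'' (algebraMap A C r) := chart_apply T β P'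
    rw [hker, Ideal.span_le, Set.insert_subset_iff, Set.singleton_subset_iff]
    have hback : ∀ x : C, algebraMap C S'' x ∈ maximalIdeal S'' → x ∈ P'.asIdeal := fun x hx =>
      (IsLocalization.AtPrime.to_map_mem_maximal_iff S'' P'.asIdeal x).1 hx
    have hdτ : Θ'' d = algebraMap C S'' τ := by
      refine (mul_cancel_right_mem_nonZeroDivisors (algebraMap_nzd β P')).1 ?_
      change _ * algebraMap C S'' (algebraMap A C b) = algebraMap C S'' τ * algebraMap C S'' (algebraMap A C b)
      rw [← map_mul, show τ * algebraMap A C b = algebraMap A C a from chart_frac β a h.mem_left, ← hΘ'', ← hΘ'',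
        hzd, map_mul]
    refine ⟨hback _ ?_, hback _ ?_⟩
    · rw [← hdτ]
      simpa [IsLocalRing.mem_maximalIdeal] using hd
    · rw [← hΘ'']
      simpa [IsLocalRing.mem_maximalIdeal] using hz b h.mem_right
  · refine Θ.injective ?_
    rw [map_mul, RingEquiv.apply_symm_apply, hΘ, hΘ, ← map_mul,
      show τ * algebraMap A C b = algebraMap A C a from chart_frac β a h.mem_left]
  · refine Ideal.ext fun s => ?_
    rw [hmem, hmS, hker, Ideal.map_span, Set.image_pair, Ideal.mem_span_pair, Ideal.mem_span_pair]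
    constructor
    · rintro ⟨x, y, hxy⟩
      refine ⟨Θ.symm x, Θ.symm y, Θ.injective ?_⟩
      rw [map_add, map_mul, map_mul, RingEquiv.apply_symm_apply, RingEquiv.apply_symm_apply,
        RingEquiv.apply_symm_apply, hΘ, hxy]
    · rintro ⟨x, y, hxy⟩
      exact ⟨Θ x, Θ y, by rw [← hxy, map_add, map_mul, map_mul, RingEquiv.apply_symm_apply, hΘ]⟩
  · obtain ⟨⟨x, w⟩, hxw⟩ := IsLocalization.surj P.asIdeal.primeCompl (Θ s)
    obtain ⟨r₁, hr₁⟩ := residue_surjective (ev x / ev w.1)
    refine ⟨r₁, ?_⟩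
    have hw : ev w.1 ≠ 0 := w.2
    have h2 : x - algebraMap A C r₁ * w.1 ∈ P.asIdeal := by
      change ev (x - algebraMap A C r₁ * w.1) = 0
      rw [map_sub, map_mul, hevA, hr₁, div_mul_cancel₀ _ hw, sub_self]
    rw [hmem, map_sub, hΘ]
    refine (Ideal.IsPrime.mem_or_mem (inferInstance : (maximalIdeal S).IsPrime)
      (y := algebraMap C S w.1) ?_).resolve_right
      fun hw' => w.2 ((IsLocalization.AtPrime.to_map_mem_maximal_iff S P.asIdeal _).1 hw')
    rw [sub_mul, hxw, ← map_mul, ← map_sub, hmS]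
    exact Ideal.mem_map_of_mem _ h2

/-- The local rings are regular. -/
theorem isRegularLocalRing_stalk (hA : ringKrullDim A = 2)
    (hp : BlowUp.IsBlowUp p (Curv2.idealSheaf A (maximalIdeal A))) (z : Y) :
    IsRegularLocalRing (Y.presheaf.stalk z) :=
  (Groth.Agent.S1622.result A hA Y p hp).2 z

end Groth.PointBlowUp
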