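import Groth.Agent.PointBlowUp.Surface
import Groth.Agent.Inter.Surface
import Groth.Agent.Inter.NakaiCor

/-!
# Intersection numbers on the blow-up of a surface in a closed point
-/

set_option autoImplicit false
set_option backward.isDefEq.respectTransparency.types false
universe u

open CategoryTheory CategoryTheory.Limits AlgebraicGeometry IsLocalRing TopologicalSpace

namespace Groth.PointBlowUp

open Groth.BlowUpBasics Groth.Inter Groth.PicAux

section

variable {X Y : Scheme.{u}}

/-- The kernel of a morphism misses the points where it is injective. -/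
theorem notMem_support_kernel {M N : X.Modules} (φ : M ⟶ N) (y : X)
    (h : Function.Injective ((QCohMod.stalk y).map φ)) : y ∉ CohB1.support (kernel φ) := by
  refine fun hy => hy ⟨fun a b => (QCohMod.mono_iff_stalk (kernel.ι φ)).1 inferInstance y (h ?_)⟩
  have hz : ∀ c, (QCohMod.stalk y).map φ ((QCohMod.stalk y).map (kernel.ι φ) c) = 0 := fun c => by
    rw [← ConcreteCategory.comp_apply, ← Functor.map_comp, kernel.condition, Functor.map_zero]
    rfl
  exact (hz a).trans (hz b).symm

/-- `O_Y → f_* O_X` is bijective on stalks at a point near which `f` is an isomorphism. -/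
theorem bijective_stalk_unitToPush (f : X ⟶ Y) (W : Y.Opens) [IsIso (f ∣_ W)] (y : Y) (hy : y ∈ W) :
    Function.Bijective ((QCohMod.stalk y).map (ClSub.unitToPush f)) := by
  have happ : ∀ V : Y.Opens, V ≤ W → Function.Bijective (f.app V) := fun V hV => by
    have e : IsIso (f.app V) := by
      obtain ⟨V', rfl⟩ : ∃ V' : W.toScheme.Opens, W.ι ''ᵁ V' = V :=
        ⟨W.ι ⁻¹ᵁ V, by rw [Scheme.Hom.image_preimage_eq_opensRange_inf, Scheme.Opens.opensRange_ι,
          inf_eq_right.2 hV]⟩
      have h1 : IsIso ((f ∣_ W).app V') := inferInstance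
      rw [morphismRestrict_app] at h1
      have hi : IsIso (eqToHom (image_morphismRestrict_preimage f W V')).op := inferInstance
      exact @IsIso.of_isIso_comp_right _ _ _ _ _ _ _ (Functor.map_isIso X.presheaf _) h1
    exact ConcreteCategory.bijective_of_isIso _
  let φ := ClSub.unitToPush f
  constructor
  · intro a b hab
    obtain ⟨V₁, hV₁, s, rfl⟩ := TopCat.Presheaf.exists_germ_eq (Coh.structureModule Y).presheaf a
    obtain ⟨V₂, hV₂, t, rfl⟩ := TopCat.Presheaf.exists_germ_eq (Coh.structureModule Y).presheaf b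
    change (TopCat.Presheaf.stalkFunctor AddCommGrpCat.{u} y).map _ _ =
      (TopCat.Presheaf.stalkFunctor AddCommGrpCat.{u} y).map _ _ at hab
    erw [TopCat.Presheaf.stalkFunctor_map_germ_apply, TopCat.Presheaf.stalkFunctor_map_germ_apply] at hab
    obtain ⟨V, hV, i₁, i₂, he⟩ := TopCat.Presheaf.germ_eq _ y _ _ _ _ hab
    have he' : res ((Coh.push f).obj (Coh.structureModule X)) i₁.le (φ.app V₁ s) =
        res ((Coh.push f).obj (Coh.structureModule X)) i₂.le (φ.app V₂ t) := he
    refine TopCat.Presheaf.germ_ext _ (V ⊓ W) ⟨hV, hy⟩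
      (homOfLE (inf_le_left.trans i₁.le)) (homOfLE (inf_le_left.trans i₂.le)) ((happ _ inf_le_right).1 ?_)
    change φ.app (V ⊓ W) (res (Coh.structureModule Y) (inf_le_left.trans i₁.le) s) =
      φ.app (V ⊓ W) (res (Coh.structureModule Y) (inf_le_left.trans i₂.le) t)
    rw [app_res φ, app_res φ, ← res_res i₁.le inf_le_left, ← res_res i₂.le inf_le_left, he']
  · intro c
    obtain ⟨V, hV, s, rfl⟩ := TopCat.Presheaf.exists_germ_eq
      ((Coh.push f).obj (Coh.structureModule X)).presheaf c
    obtain ⟨t, ht⟩ := (happ (V ⊓ W) inf_le_right).2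
      (res ((Coh.push f).obj (Coh.structureModule X)) inf_le_left s)
    refine ⟨(Coh.structureModule Y).presheaf.germ (V ⊓ W) y ⟨hV, hy⟩ t, ?_⟩
    change (TopCat.Presheaf.stalkFunctor AddCommGrpCat.{u} y).map _ _ = _
    erw [TopCat.Presheaf.stalkFunctor_map_germ_apply]
    exact (congrArg (((Coh.push f).obj (Coh.structureModule X)).presheaf.germ (V ⊓ W) y ⟨hV, hy⟩) ht).trans
      (TopCat.Presheaf.germ_res_apply _ (homOfLE inf_le_left) y ⟨hV, hy⟩ s)

end

variable (k : Type u) [Field k] {X X' : Scheme.{u}} [X.Over (Spec (CommRingCat.of k))]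
  [IsProper (X ↘ Spec (CommRingCat.of k))] [X'.Over (Spec (CommRingCat.of k))]
  (hdim : ∀ Z ∈ irreducibleComponents (X : Type u), topologicalKrullDim Z = 2)
  {x : X} (hx : IsClosed ({x} : Set X)) {π : X' ⟶ X}
  (hb : BlowUp.IsBlowUp π (Scheme.IdealSheafData.vanishingIdeal ⟨{x}, hx⟩))
  (hπ : π ≫ (X ↘ Spec (CommRingCat.of k)) = X' ↘ Spec (CommRingCat.of k))

include k hb hπ in
theorem isProper_over : IsProper (X' ↘ Spec (CommRingCat.of k)) :=
  have := isProper_blowUp k hx hb
  hπ ▸ inferInstance

omit [X.Over (Spec (CommRingCat.of k))] [IsProper (X ↘ Spec (CommRingCat.of k))]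
  [X'.Over (Spec (CommRingCat.of k))] in
theorem dim_singleton_lt {n : ℕ} (hn : 0 < n) {S : Set X} (hS : S ⊆ {x}) :
    topologicalKrullDim S < (n : ℕ) := by
  refine lt_of_le_of_lt ((LocCohTransform.topologicalKrullDim_mono hS).trans ?_)
    (show ((0 : ℕ) : WithBot ℕ∞) < (n : ℕ) by exact_mod_cast hn)
  exact topologicalKrullDim_zero_of_discreteTopology ({x} : Set X)

omit [X'.Over (Spec (CommRingCat.of k))] in
theorem delta_seq {l : List X.Modules} (hl : ∀ N ∈ l, PicF.IsInvertible N) {A B C : X.Modules}
    (f : A ⟶ B) (g : B ⟶ C) (w : f ≫ g = 0) (hS : (ShortComplex.mk f g w).ShortExact) (hA : Coh.IsCoh A)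
    (hC : Coh.IsCoh C) : delta k l B = delta k l A + delta k l C :=
  delta_add k hl hS hA hC

omit [X'.Over (Spec (CommRingCat.of k))] in
/-- A morphism bijective on stalks away from a point does not change intersection numbers of surfaces. -/
theorem delta_eq_of_bijective_off {l : List X.Modules} (hl : ∀ N ∈ l, PicF.IsInvertible N)
    (hpos : 0 < l.length)
    {F G : X.Modules} (φ : F ⟶ G) (hF : Coh.IsCoh F) (hG : Coh.IsCoh G) {x : X}
    (hoff : ∀ y : X, y ≠ x → Function.Bijective ((QCohMod.stalk y).map φ)) :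
    delta k l F = delta k l G := by
  have := isNoetherian k (X := X)
  have := hG.1
  have := hF.1
  have hQ : Coh.IsCoh (cokernel φ) := QCohMod.isCoh_cokernel φ hG
  have hK : Coh.IsCoh (kernel φ) := QCohMod.isCoh_kernel φ hF
  have := hQ.1
  have hI : Coh.IsCoh (Abelian.image φ) := QCohMod.isCoh_kernel (cokernel.π φ) hG
  have hz : ∀ {H : X.Modules}, Coh.IsCoh H → CohB1.support H ⊆ {x} → delta k l H = 0 :=
    fun hH hs => delta_eq_zero k _ hl _ hH (dim_singleton_lt hpos hs)
  have hK0 := hz hK fun y hy => by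
    by_contra hne
    exact notMem_support_kernel φ y (hoff y hne).1 hy
  have hQ0 := hz hQ fun y hy => by
    by_contra hne
    exact CohTwo.notMem_support_cokernel φ y (hoff y hne).2 hy
  have w : kernel.ι φ ≫ Abelian.factorThruImage φ = 0 := by
    rw [← cancel_mono (Abelian.image.ι φ), Category.assoc, Abelian.image.fac, zero_comp, kernel.condition]
  let T : ShortComplex X.Modules := ShortComplex.mk (kernel.ι φ) (Abelian.factorThruImage φ) w
  let T' : ShortComplex X.Modules := ShortComplex.mk (kernel.ι φ) φ (kernel.condition φ)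
  let ψ : T ⟶ T' :=
    { τ₁ := 𝟙 _, τ₂ := 𝟙 _, τ₃ := Abelian.image.ι φ
      comm₁₂ := (Category.id_comp _).trans (Category.comp_id _).symm
      comm₂₃ := (Category.id_comp _).trans (Abelian.image.fac φ).symm }
  have : Epi ψ.τ₁ := inferInstanceAs (Epi (𝟙 _))
  have : IsIso ψ.τ₂ := inferInstanceAs (IsIso (𝟙 _))
  have : Mono ψ.τ₃ := inferInstanceAs (Mono (Abelian.image.ι φ))
  have hT' : T'.Exact := ShortComplex.exact_of_f_is_kernel _ (kernelIsKernel φ)
  have hT₁ : T.ShortExact :=
    { exact := (ShortComplex.exact_iff_of_epi_of_isIso_of_mono ψ).2 hT'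
      mono_f := inferInstanceAs (Mono (kernel.ι φ))
      epi_g := inferInstanceAs (Epi (Abelian.factorThruImage φ)) }
  let T₂ : ShortComplex X.Modules := ShortComplex.mk (Abelian.image.ι φ) (cokernel.π φ) (kernel.condition _)
  have hT₂ : T₂.ShortExact :=
    { exact := ShortComplex.exact_of_f_is_kernel _ (kernelIsKernel (cokernel.π φ))
      mono_f := inferInstanceAs (Mono (Abelian.image.ι φ))
      epi_g := inferInstanceAs (Epi (cokernel.π φ)) }
  have e₁ := delta_seq k hl _ _ w hT₁ hK hI
  have e₂ := delta_seq k hl _ _ (kernel.condition _) hT₂ hI hQ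
  rw [e₁, e₂, hK0, hQ0, zero_add, add_zero]

include hdim hb hπ in
/-- Intersection numbers of pullbacks. -/
theorem pair_pullback {L M : X.Modules} (hL : PicF.IsInvertible L) (hM : PicF.IsInvertible M) :
    pair k ((Scheme.Modules.pullback π).obj L) ((Scheme.Modules.pullback π).obj M) = pair k L M := by
  have := isProper_over k hx hb hπ
  have := isProper_blowUp k hx hb
  have := isNoetherian k (X := X)
  have := isNoetherian k (X := X')
  have hl : ∀ N ∈ [L, M], PicF.IsInvertible N := by simp [hL, hM]
  have hO := isCoh_of_isInvertible (EulerDeg.isInvertible_structureModule X)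
  have hO' := isCoh_of_isInvertible (EulerDeg.isInvertible_structureModule X')
  have hd' : topologicalKrullDim X' ≤ (2 : ℕ) :=
    RefRank.SmoothFittingFlat.dim_le_of_components fun Z hZ =>
      (dim_component k hdim hx hb hπ Z hZ).le
  have e := delta_pullback_eq k π hπ hl hO' (dim_support_le hd' _)
  simp only [List.map_cons, List.map_nil] at e
  have hP := isCoh_push_proper π hO'
  have hiso := Groth.Divisors.isIso_morphismRestrict_compl hb
  have key := delta_eq_of_bijective_off k hl (by simp) (ClSub.unitToPush π) hO hP (x := x) fun y hy =>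
    bijective_stalk_unitToPush π (Groth.Divisors.complOpens _) y
      (fun h => hy ((Set.ext_iff.1 (support_point hx) y).1 h))
  exact e.trans key.symm

include hdim hb hπ in
/-- Pullbacks are orthogonal to the exceptional divisor. -/
theorem pair_pullback_exceptional {L : X.Modules} (hL : PicF.IsInvertible L) :
    pair k ((Scheme.Modules.pullback π).obj L) (ClSub.idealMod (BlowUp.exceptional π
      (Scheme.IdealSheafData.vanishingIdeal ⟨{x}, hx⟩))) = 0 := by
  have := isProper_over k hx hb hπ
  have := isProper_blowUp k hx hb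
  have := isNoetherian k (X := X)
  have := isNoetherian k (X := X')
  set E := BlowUp.exceptional π (Scheme.IdealSheafData.vanishingIdeal (⟨{x}, hx⟩ : Closeds X)) with hEdef
  have hd' : topologicalKrullDim X' ≤ (2 : ℕ) :=
    RefRank.SmoothFittingFlat.dim_le_of_components fun Z hZ =>
      (dim_component k hdim hx hb hπ Z hZ).le
  obtain ⟨hQ, hsupp⟩ := support_quotMod k E
  have hl : ∀ N ∈ [(Scheme.Modules.pullback π).obj L], PicF.IsInvertible N := by
    simp [PicAux.isInvertible_pullback π hL]
  have hI := isCoh_of_isInvertible (isInvertible_idealMod hb.1)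
  have e1 := delta_seq k (X := X') hl _ _ _ (shortExact_idealMod E) hI hQ
  have hdimE : topologicalKrullDim (CohB1.support (ClSub.quotMod E)) ≤ (([L].length : ℕ) : WithBot ℕ∞) := by
    rw [hsupp]
    refine lt_natCast_succ_iff.1 (lt_of_le_of_ne ((topologicalKrullDim_subspace_le X' _).trans hd') fun h => ?_)
    obtain ⟨ξ, hξ, hξd⟩ := Groth.Inter.exists_dim_closure_eq E.support.isClosed h
    exact Groth.Divisors.not_mem_support_of_maximal hb.1 (fun y hy =>
      (eq_of_dim_closure hy.mem_closure ((topologicalKrullDim_subspace_le X' _).trans hd') hξd.ge).symm) hξ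
  have e2 := delta_pullback_eq k π hπ (l := [L]) (by simp [hL]) hQ hdimE
  simp only [List.map_cons, List.map_nil] at e2
  have h0 : delta k [L] ((Coh.push π).obj (ClSub.quotMod E)) = 0 := by
    refine delta_eq_zero k _ (by simp [hL]) _ (isCoh_push_proper π hQ)
      (dim_singleton_lt (x := x) (n := 1) one_pos ?_)
    refine (support_push_subset' π _ (CohTwo.isClosed_support _ hQ)).trans ?_
    rw [hsupp]
    rintro _ ⟨y, hy, rfl⟩
    exact (mem_support_exceptional hx y).1 hy
  rw [pair_comm k, Inter.pair, delta_cons,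
    delta_congr k _ ⟨(tensor_comm _ _).some ≪≫ (tensor_one (ClSub.idealMod E)).some⟩, e1, e2, h0]
  ring

end Groth.PointBlowUp
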