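import Groth.Agent.PointBlowUp.Pairing
import Groth.Agent.RefRank.EffCartierLocal
import Groth.Agent.PicAux.EffCartierSection
import Groth.Agent.ParaFormal.StalkIdeal
import Groth.Agent.Curves1.RR.PointDiv
import Groth.Agent.Surfaces.RegularTwo
import Groth.Agent.BlowUpBasics.CartierDiv
import Groth.Agent.Divisors.EffCartierMore
import Groth.Agent.Calg4.RegularAscent

/-!
# The self-intersection of the exceptional curve
-/

set_option autoImplicit false
set_option backward.isDefEq.respectTransparency.types false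
universe u

open CategoryTheory CategoryTheory.Limits AlgebraicGeometry IsLocalRing TopologicalSpace

namespace Groth.PointBlowUp

open Groth.BlowUpBasics Groth.PicAux

section

variable {X X' : Scheme.{u}}

theorem mem_support_iff_stalkIdeal (D : X.IdealSheafData) (y : X) :
    y ∈ D.support ↔ IntMult.stalkIdeal D y ≠ ⊤ := by
  obtain ⟨U, hU, -⟩ := Divisors.exists_affine_le y ⊤ trivial
  rw [ParaFormal.stalkIdeal_eq D U hU]
  exact RefRank.EffCartierLocal.mem_support_iff_map_germ_ne_top D hU

theorem stalkIdeal_mul (I J : X.IdealSheafData) (y : X) :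
    IntMult.stalkIdeal (I * J) y = IntMult.stalkIdeal I y * IntMult.stalkIdeal J y := by
  obtain ⟨U, hU, -⟩ := Divisors.exists_affine_le y ⊤ trivial
  simp only [ParaFormal.stalkIdeal_eq _ U hU, Scheme.IdealSheafData.ideal_mul, Pi.mul_apply, Ideal.map_mul]

theorem stalkIdeal_sup (I J : X.IdealSheafData) (y : X) :
    IntMult.stalkIdeal (I ⊔ J) y = IntMult.stalkIdeal I y ⊔ IntMult.stalkIdeal J y := by
  obtain ⟨U, hU, -⟩ := Divisors.exists_affine_le y ⊤ trivial
  simp only [ParaFormal.stalkIdeal_eq _ U hU, Scheme.IdealSheafData.ideal_sup, Pi.sup_apply, Ideal.map_sup]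

/-- The stalks of pulled back ideals seen in the local model. -/
theorem map_stalkIdeal_comap {x : X} {P : Scheme.{u}} {π : X' ⟶ X}
    {p : P ⟶ Spec (CommRingCat.of (X.presheaf.stalk x))} {q : P ⟶ X'}
    (hgerm : ∀ (z : P) (U : X.Opens) (hxU : x ∈ U) (hz : q z ∈ π ⁻¹ᵁ U) (s : Γ(X, U)),
      ptMap p z (X.presheaf.germ U x hxU s) =
        q.stalkMap z (X'.presheaf.germ (π ⁻¹ᵁ U) (q z) hz (π.app U s)))
    (J : X.IdealSheafData) (z : P) (hz : π (q z) = x) :
    (IntMult.stalkIdeal (J.comap π) (q z)).map (q.stalkMap z).hom =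
      (IntMult.stalkIdeal J x).map (ptMap p z) := by
  obtain ⟨U, hU, -⟩ := Divisors.exists_affine_le x ⊤ trivial
  have hU' : π (q z) ∈ U.1 := hz.symm ▸ hU
  rw [ParaFormal.stalkIdeal_comap, ParaFormal.stalkIdeal_eq J U hU', ParaFormal.stalkIdeal_eq J U hU,
    Ideal.map_map, Ideal.map_map, Ideal.map_map]
  congr 1
  refine RingHom.ext fun s => ?_
  refine Eq.trans ?_ (hgerm z U.1 hU hU' s).symm
  exact congrArg (q.stalkMap z) (Scheme.Hom.germ_stalkMap_apply π U.1 (q z) hU' s)

theorem ufd_of_dim_le_one (R : Type u) [CommRing R] [IsRegularLocalRing R] (h : ringKrullDim R < 2) :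
    UniqueFactorizationMonoid R := by
  have := Groth.Ega4Algebra1.isDomain_of_isRegularLocalRing R
  have hs : (maximalIdeal R).spanFinrank ≤ 1 := by
    have h' : ((maximalIdeal R).spanFinrank : WithBot ℕ∞) < ((2 : ℕ) : WithBot ℕ∞) := by
      rw [IsRegularLocalRing.spanFinrank_maximalIdeal]; exact h
    exact Nat.lt_succ_iff.1 (by exact_mod_cast h')
  have hp : (maximalIdeal R).IsPrincipal := by
    have hfg := (maximalIdeal R).fg_of_isNoetherianRing
    have hn : (maximalIdeal R).generators.ncard ≤ 1 := (Submodule.FG.generators_ncard hfg).trans_le hs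
    rcases (Set.ncard_le_one_iff_eq (Submodule.FG.finite_generators hfg)).1 hn with h0 | ⟨c, hc⟩
    · exact ⟨⟨0, by rw [← (maximalIdeal R).span_generators, h0]; simp⟩⟩
    · exact ⟨⟨c, by rw [← (maximalIdeal R).span_generators, hc]⟩⟩
  have : IsPrincipalIdealRing R :=
    ((tfae_of_isNoetherianRing_of_isLocalRing_of_isDomain (R := R)).out 0 4).2 hp
  infer_instance

/-- A regular point of an integral curve with prescribed local equation. -/
theorem exists_divisor {x : X} (hA : ringKrullDim (X.presheaf.stalk x) = 2)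
    (hreg : ∀ y : X, IsRegularLocalRing (X.presheaf.stalk y)) (hdim : ∀ y : X, ringKrullDim (X.presheaf.stalk y) ≤ 2)
    [IsRegularLocalRing (X.presheaf.stalk x)] [IsLocallyNoetherian X]
    {a b : X.presheaf.stalk x} (h : Param hA a b) :
    ∃ D : X.IdealSheafData, BlowUp.IsEffCartierIdeal D ∧ IntMult.stalkIdeal D x = Ideal.span {a} ∧
      ∀ hx : IsClosed ({x} : Set X), D ≤ Scheme.IdealSheafData.vanishingIdeal ⟨{x}, hx⟩ := by
  have hdom := h.isDomain_quotient
  have hP : (Ideal.span {a}).IsPrime := (Ideal.Quotient.isDomain_iff_prime _).1 hdom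
  obtain ⟨η, hη, hu, hd⟩ := @RefRank.exists_generization_of_prime _ x (Ideal.span {a}) hP
  have hprime := RefRank.EffCartierLocal.primeAt_eq hη hu
  have hh : (Ideal.span {a}).height = 1 := by
    refine le_antisymm (Ideal.height_le_one_of_isPrincipal_of_mem_minimalPrimes (Ideal.span {a}) _
      (by rw [Ideal.minimalPrimes_eq_subsingleton_self]; rfl)) ?_
    have := Groth.Ega4Algebra1.isDomain_of_isRegularLocalRing (X.presheaf.stalk x)
    exact Order.one_le_iff_pos.2 (pos_iff_ne_zero.2 fun e => h.ne_zero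
      (Ideal.span_singleton_eq_bot.1 ((Ideal.height_eq_zero_iff_eq_bot).1 e)))
  let D := Scheme.IdealSheafData.vanishingIdeal (⟨closure {η}, isClosed_closure⟩ : Closeds X)
  have hsupp : (D.support : Set X) = closure {η} := Scheme.IdealSheafData.coe_support_vanishingIdeal _
  have hrange : Set.range D.subschemeι = closure {η} := D.range_subschemeι.trans hsupp
  have : IsIntegral D.subscheme := CohTwo.isIntegral_closure_subscheme rfl
  have hgen : D.subschemeι (genericPoint D.subscheme) = η :=
    CohTwo.apply_genericPoint_eq D.subschemeι hrange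
  obtain ⟨U, hU, -⟩ := Divisors.exists_affine_le x ⊤ trivial
  have hJ : IntMult.stalkIdeal D x = Ideal.span {a} := by
    rw [ParaFormal.stalkIdeal_eq D U hU]
    set J := (D.ideal U).map (X.presheaf.germ U.1 x hU).hom with hJdef
    have hrad : J.IsRadical :=
      RefRank.EffCartierLocal.isRadical_map_germ D (RefRank.EffCartierLocal.isRadical_vanishingIdeal _) hU
    have hne : J ≠ ⊤ := (RefRank.EffCartierLocal.mem_support_iff_map_germ_ne_top D hU).1
      ((Set.ext_iff.1 hsupp x).2 (specializes_iff_mem_closure.1 hη))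
    have hmin : ∀ Q ∈ J.minimalPrimes, Q = Ideal.span {a} := fun Q hQ => by
      obtain ⟨y, hy, he, hyD, hmax, -⟩ := RefRank.EffCartierLocal.exists_maximal_point D hU hQ
      have hηy : η ⤳ y := specializes_iff_mem_closure.2 ((Set.ext_iff.1 hsupp y).1 hyD)
      obtain rfl := hmax η ((Set.ext_iff.1 hsupp η).2 (subset_closure rfl)) hηy
      exact he.symm.trans hprime
    obtain ⟨Q, hQ⟩ := Ideal.nonempty_minimalPrimes hne
    rw [← hrad.radical, ← Ideal.sInf_minimalPrimes]
    exact le_antisymm (hmin Q hQ ▸ sInf_le hQ) (le_sInf fun Q' hQ' => (hmin Q' hQ').ge)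
  have hcodim : ringKrullDim (X.presheaf.stalk (D.subschemeι (genericPoint D.subscheme))) = 1 := by
    rw [hgen, hd, hh]; rfl
  refine ⟨D, RefRank.EffCartierLocal.isEffCartierIdeal_of_isIntegral D hcodim fun y _ => ?_, hJ,
    fun hx => Scheme.IdealSheafData.vanishingIdeal_antimono
      (Set.singleton_subset_iff.2 (specializes_iff_mem_closure.1 hη))⟩
  have := hreg y
  have hdy := Groth.Ega4Algebra1.isDomain_of_isRegularLocalRing (X.presheaf.stalk y)
  refine ⟨hdy, ?_⟩
  rcases (hdim y).lt_or_eq with hlt | heq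
  · exact Groth.PointBlowUp.ufd_of_dim_le_one _ hlt
  · exact Groth.Surfaces.RegularTwo.ufd heq

/-- The residue field of a point with residue field generated by that of its image. -/
theorem residueFieldMap_surjective_of (π : X' ⟶ X) (y : X')
    (h : ∀ s : X'.presheaf.stalk y, ∃ (U : X.Opens) (hy : π y ∈ U) (t : Γ(X, U)),
      s - X'.presheaf.germ (π ⁻¹ᵁ U) y hy (π.app U t) ∈ maximalIdeal (X'.presheaf.stalk y)) :
    Function.Surjective (π.residueFieldMap y) := by
  intro c
  obtain ⟨s, rfl⟩ := IsLocalRing.residue_surjective c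
  obtain ⟨U, hy, t, ht⟩ := h s
  refine ⟨X.residue (π y) (X.presheaf.germ U (π y) hy t), ?_⟩
  have h1 := ConcreteCategory.congr_hom (Scheme.residue_residueFieldMap π y) (X.presheaf.germ U (π y) hy t)
  refine h1.trans ?_
  change X'.residue y (π.stalkMap y (X.presheaf.germ U (π y) hy t)) = _
  rw [Scheme.Hom.germ_stalkMap_apply]
  exact (sub_eq_zero.1 ((map_sub _ _ _).symm.trans ((IsLocalRing.residue_eq_zero_iff _).2 ht))).symm

attribute [local instance] Curv2.resAlgebra

theorem finrank_residueField_eq (k : Type u) [Field k] [X.Over (Spec (CommRingCat.of k))]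
    [X'.Over (Spec (CommRingCat.of k))] (π : X' ⟶ X)
    (hπ : π ≫ (X ↘ Spec (CommRingCat.of k)) = X' ↘ Spec (CommRingCat.of k)) {x : X} {y : X'}
    (hy : π y = x) (h : Function.Surjective (π.residueFieldMap y)) :
    Module.finrank k (X'.residueField y) = Module.finrank k (X.residueField x) := by
  subst hy
  refine (LinearEquiv.finrank_eq (LinearEquiv.ofBijective
    ({ toFun := π.residueFieldMap y
       map_add' := map_add (π.residueFieldMap y).hom
       map_smul' := fun c v => ?_ } : X.residueField (π y) →ₗ[k] X'.residueField y)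
    ⟨(π.residueFieldMap y).hom.injective, h⟩)).symm
  rw [RingHom.id_apply, Algebra.smul_def, Algebra.smul_def, map_mul]
  congr 1
  have h1 := ConcreteCategory.congr_hom (Scheme.residue_residueFieldMap π y)
    (Curv2.stalkMap k X (π y) c)
  refine h1.trans ?_
  change X'.residue y (π.stalkMap y (X.presheaf.germ ⊤ (π y) trivial _)) = _
  rw [Scheme.Hom.germ_stalkMap_apply]
  refine congrArg (fun t => X'.residue y (X'.presheaf.germ ⊤ y trivial t)) ?_
  change π.appTop (Coh.toGlobal _ c) = Coh.toGlobal _ c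
  rw [← hπ]
  rfl

end

variable (k : Type u) [Field k] {X X' : Scheme.{u}} [X.Over (Spec (CommRingCat.of k))]
  [IsProper (X ↘ Spec (CommRingCat.of k))] [X'.Over (Spec (CommRingCat.of k))]
  (hdim : ∀ Z ∈ irreducibleComponents (X : Type u), topologicalKrullDim Z = 2)
  (hreg : ∀ y : X, IsRegularLocalRing (X.presheaf.stalk y))
  {x : X} (hx : IsClosed ({x} : Set X)) {π : X' ⟶ X}
  (hb : BlowUp.IsBlowUp π (Scheme.IdealSheafData.vanishingIdeal ⟨{x}, hx⟩))
  (hπ : π ≫ (X ↘ Spec (CommRingCat.of k)) = X' ↘ Spec (CommRingCat.of k))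

attribute [local instance] Curv2.resAlgebra

include hdim hreg hb hπ in
/-- The self-intersection of the exceptional curve. -/
theorem pair_exceptional :
    Inter.pair k (ClSub.idealMod (BlowUp.exceptional π (Scheme.IdealSheafData.vanishingIdeal ⟨{x}, hx⟩)))
      (ClSub.idealMod (BlowUp.exceptional π (Scheme.IdealSheafData.vanishingIdeal ⟨{x}, hx⟩))) =
      -(Module.finrank k (X.residueField x) : ℤ) := by
  have := isProper_over k hx hb hπ
  have := hreg x
  have hdX := dim_le_two hdim
  have := Inter.isNoetherian k (X := X)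
  have hA := ringKrullDim_stalk_closedPoint k hdim hx
  set E := BlowUp.exceptional π (Scheme.IdealSheafData.vanishingIdeal (⟨{x}, hx⟩ : Closeds X)) with hEdef
  classical
  obtain ⟨a, b, hab⟩ := exists_param (hA := hA)
  obtain ⟨P, p, q, hp, hlift, hbij, hsq, hqinj, hgerm⟩ := exists_localModel hx hb
  obtain ⟨D, hD, hDx, hDle⟩ := exists_divisor hA hreg
    (fun y => (Duality.ringKrullDim_stalk_le y).trans hdX) hab
  obtain ⟨T⟩ := nonempty_atlas_of_isBlowUp hp
  obtain ⟨z₀, hz₀, huniq, ⟨d₀, hd₀, hm₀⟩, hres₀⟩ := exists_direction hab T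
  -- the points over `x`
  have hover : ∀ z : P, (∀ r ∈ maximalIdeal (X.presheaf.stalk x),
      ptMap p z r ∈ maximalIdeal (P.presheaf.stalk z)) ↔ π (q z) = x := fun z => by
    have hmem : ∀ r, ptMap p z r ∈ maximalIdeal (P.presheaf.stalk z) ↔ r ∈ (p z).asIdeal := fun r => by
      let φ := (Scheme.ΓSpecIso (CommRingCat.of (X.presheaf.stalk x))).inv r
      have h1 : ptMap p z r = p.stalkMap z ((Spec (CommRingCat.of (X.presheaf.stalk x))).presheaf.germ ⊤
          (p z) trivial φ) := (Scheme.Hom.germ_stalkMap_apply p ⊤ z trivial φ).symm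
      have h2 : (Spec (CommRingCat.of (X.presheaf.stalk x))).presheaf.germ ⊤ (p z) trivial φ =
          algebraMap (X.presheaf.stalk x) ((Spec.structureSheaf (X.presheaf.stalk x)).presheaf.stalk (p z)) r := rfl
      rw [IsLocalRing.mem_maximalIdeal, mem_nonunits_iff, h1, isUnit_map_iff, h2]
      haveI : IsLocalization.AtPrime ((Spec.structureSheaf (X.presheaf.stalk x)).presheaf.stalk (p z))
          (p z).asIdeal := StructureSheaf.IsLocalization.to_stalk (X.presheaf.stalk x) (p z)
      exact (IsLocalization.AtPrime.isUnit_to_map_iff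
        ((Spec.structureSheaf (X.presheaf.stalk x)).presheaf.stalk (p z)) (p z).asIdeal r).not.trans not_not
    rw [show π (q z) = X.fromSpecStalk x (p z) from congr($(hsq) z)]
    constructor
    · intro h
      have hpz : p z = closedPoint (X.presheaf.stalk x) := PrimeSpectrum.ext
        (((maximalIdeal.isMaximal _).eq_of_le (p z).isPrime.ne_top fun r hr => (hmem r).1 (h r hr)).symm)
      rw [hpz]
      exact Scheme.fromSpecStalk_closedPoint
    · intro h r hr
      have hpz : p z = closedPoint (X.presheaf.stalk x) :=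
        (X.fromSpecStalk x).isEmbedding.injective (h.trans Scheme.fromSpecStalk_closedPoint.symm)
      rw [hmem, hpz]
      exact hr
  let y₀ := q z₀
  have hy₀ : π y₀ = x := (hover z₀).1 hz₀
  -- the strict transform
  have hEc : BlowUp.IsEffCartierIdeal E := hb.1
  have hDc := Groth.Divisors.isEffCartierIdeal_comap_blowUp hb hD
  obtain ⟨D', hD'eq⟩ : ∃ L, D.comap π = L * E := exists_eq_mul_of_le hEc
    ((Scheme.IdealSheafData.comap_mono π (hDle hx)) : D.comap π ≤ E)
  have hD'c : BlowUp.IsEffCartierIdeal D' :=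
    Groth.Divisors.isEffCartierIdeal_left_of_mul (hD'eq ▸ hDc)
  have hmx : IntMult.stalkIdeal (Scheme.IdealSheafData.vanishingIdeal (⟨{x}, hx⟩ : Closeds X)) x =
      maximalIdeal (X.presheaf.stalk x) := by
    obtain ⟨U, hU, -⟩ := Divisors.exists_affine_le x ⊤ trivial
    rw [ParaFormal.stalkIdeal_eq _ U hU]
    exact map_germ_vanishingIdeal hx U hU
  have hreg' := isRegular_blowUp k hdim hx hb hreg
  -- the local computation
  have hloc : ∀ z : P, π (q z) = x →
      (IntMult.stalkIdeal (D' ⊔ E) (q z)).map (q.stalkMap z).hom =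
        if z = z₀ then maximalIdeal (P.presheaf.stalk z) else ⊤ := by
    intro z hz
    have := hreg' (q z)
    have : IsRegularLocalRing (P.presheaf.stalk z) :=
      IsRegularLocalRing.of_ringEquiv (RingEquiv.ofBijective (q.stalkMap z).hom (hbij z))
    have := Groth.Ega4Algebra1.isDomain_of_isRegularLocalRing (P.presheaf.stalk z)
    have hEz : (IntMult.stalkIdeal E (q z)).map (q.stalkMap z).hom =
        (maximalIdeal (X.presheaf.stalk x)).map (ptMap p z) :=
      (map_stalkIdeal_comap hgerm _ z hz).trans (by rw [hmx])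
    have hDz : (IntMult.stalkIdeal D' (q z)).map (q.stalkMap z).hom *
        (IntMult.stalkIdeal E (q z)).map (q.stalkMap z).hom = Ideal.span {ptMap p z a} := by
      rw [← Ideal.map_mul, ← stalkIdeal_mul, ← hD'eq, map_stalkIdeal_comap hgerm D z hz, hDx, Ideal.map_span,
        Set.image_singleton]
    have hE0 : (IntMult.stalkIdeal E (q z)).map (q.stalkMap z).hom ≠ ⊥ := by
      intro h0
      obtain ⟨W, hW, g, hg, hgI⟩ := hEc (q z)
      rw [ParaFormal.stalkIdeal_eq E W hW, hgI, Ideal.map_span, Set.image_singleton, Ideal.map_span,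
        Set.image_singleton, Ideal.span_singleton_eq_bot] at h0
      have h1 : X'.presheaf.germ W.1 (q z) hW g = 0 := (hbij z).1 (h0.trans (map_zero _).symm)
      haveI := Groth.Ega4Algebra1.isDomain_of_isRegularLocalRing (X'.presheaf.stalk (q z))
      let _ := TopCat.Presheaf.algebra_section_stalk X'.presheaf ⟨q z, hW⟩
      haveI := W.2.isLocalization_stalk ⟨q z, hW⟩
      exact nonZeroDivisors.ne_zero (IsLocalization.map_nonZeroDivisors_le
        (W.2.primeIdealOf ⟨q z, hW⟩).asIdeal.primeCompl (X'.presheaf.stalk (q z)) ⟨g, hg, rfl⟩) h1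
    rw [stalkIdeal_sup, Ideal.map_sup]
    rw [hEz] at hDz hE0 ⊢
    have hgen : ∀ e : P.presheaf.stalk z, (∀ r ∈ maximalIdeal (X.presheaf.stalk x), e ∣ ptMap p z r) →
        (∀ r, e = ptMap p z r → r ∈ maximalIdeal (X.presheaf.stalk x) →
          (maximalIdeal (X.presheaf.stalk x)).map (ptMap p z) = Ideal.span {e}) := fun e he r hr hrm =>
      le_antisymm (Ideal.map_le_iff_le_comap.2 fun s hs => Ideal.mem_span_singleton.2 (he s hs))
        ((Ideal.span_singleton_le_iff_mem _).2 (hr ▸ Ideal.mem_map_of_mem _ hrm))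
    have hcancel : ∀ e c, (maximalIdeal (X.presheaf.stalk x)).map (ptMap p z) = Ideal.span {e} →
        ptMap p z a = c * e → (IntMult.stalkIdeal D' (q z)).map (q.stalkMap z).hom = Ideal.span {c} := by
      intro e c he hc
      have he0 : e ≠ 0 := fun h => hE0 (by rw [he, h, Ideal.span_singleton_eq_bot])
      rw [he, hc, ← Ideal.span_singleton_mul_span_singleton, mul_comm,
        mul_comm (Ideal.span {c})] at hDz
      exact (Ideal.span_singleton_mul_right_inj he0).1 hDz
    split_ifs with h0
    · subst h0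
      have hb' : ∀ r ∈ maximalIdeal (X.presheaf.stalk x), ptMap p z b ∣ ptMap p z r := fun r hr => by
        obtain ⟨u, v, rfl⟩ := Ideal.mem_span_pair.1 (hab.span_eq ▸ hr)
        rw [map_add, map_mul, map_mul, hd₀]
        exact Dvd.intro (ptMap p z u * d₀ + ptMap p z v) (by ring)
      have he := hgen _ hb' b rfl hab.mem_right
      rw [he, hcancel _ d₀ he hd₀, hm₀, ← Ideal.span_insert]
    · rcases generated_by_param hab T z with h1 | h1
      · obtain ⟨d, hd⟩ := h1 a hab.mem_left
        have he := hgen _ h1 b rfl hab.mem_right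
        rw [hcancel _ d he (hd.trans (mul_comm _ _))]
        have hu : IsUnit d := by
          by_contra hu
          exact h0 (huniq z ((hover z).2 hz) d hu (hd.trans (mul_comm _ _)))
        rw [Ideal.span_singleton_eq_top.2 hu, top_sup_eq]
      · have he := hgen _ h1 a rfl hab.mem_left
        rw [hcancel _ 1 he (one_mul _).symm, Ideal.span_singleton_one, top_sup_eq]
  have hst : ∀ y : X', IntMult.stalkIdeal (D' ⊔ E) y =
      if y = y₀ then maximalIdeal (X'.presheaf.stalk y) else ⊤ := by
    intro y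
    by_cases hy : π y = x
    · obtain ⟨z, rfl⟩ := hlift y hy
      have h1 := congrArg (Ideal.comap (q.stalkMap z).hom) (hloc z hy)
      rw [Ideal.comap_map_of_bijective (q.stalkMap z).hom (hbij z)] at h1
      rw [h1]
      by_cases hz : z = z₀
      · subst hz
        rw [if_pos rfl, if_pos rfl]
        exact IsLocalRing.maximalIdeal_comap _
      · rw [if_neg hz, if_neg ?_, Ideal.comap_top]
        exact fun he => hz (hqinj he)
    · rw [if_neg (fun h : y = y₀ => hy (h ▸ hy₀))]
      refine not_not.1 fun h => hy ((mem_support_exceptional hx y).1 ?_)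
      rw [← hEdef, mem_support_iff_stalkIdeal]
      exact fun hE => h (by rw [stalkIdeal_sup, hE, sup_top_eq])
  have hsupp : ((D' ⊔ E).support : Set X') = {y₀} := Set.ext fun y => by
    rw [Set.mem_singleton_iff]
    refine (mem_support_iff_stalkIdeal _ y).trans ?_
    rw [hst y]
    by_cases hy : y = y₀
    · simp only [hy, if_true, iff_true]
      exact (maximalIdeal.isMaximal _).ne_top
    · simp [hy]
  have hy₀c : IsClosed ({y₀} : Set X') := hsupp ▸ (D' ⊔ E).support.isClosed
  have hJ : D' ⊔ E = Curves1.RR.pointIdeal y₀ hy₀c := ParaFormal.idealSheaf_ext fun y => by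
    rw [hst y]
    by_cases hy : y = y₀
    · subst hy
      rw [if_pos rfl]
      obtain ⟨U, hU, -⟩ := Divisors.exists_affine_le y₀ ⊤ trivial
      rw [ParaFormal.stalkIdeal_eq _ U hU]
      exact (map_germ_vanishingIdeal hy₀c U hU).symm
    · rw [if_neg hy]
      refine Eq.symm (by_contra fun h => hy ?_)
      have := (mem_support_iff_stalkIdeal _ y).2 h
      exact (Set.ext_iff.1 (Curves1.RR.support_pointIdeal y₀ hy₀c) y).1 this
  have hdim' : ∀ Z ∈ irreducibleComponents (X' : Type u), topologicalKrullDim Z = 2 :=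
    dim_component k hdim hx hb hπ
  have hd' := dim_le_two hdim'
  have hkey := Inter.intNum_pair_eq_finrank k hdim' hd'
    (fun y => by have := hreg' y; exact Groth.Calg4.isCohenMacaulayLocalRing_of_isRegularLocalRing _) D' E hD'c hEc (by rw [hsupp]; exact Set.finite_singleton _)
  rw [Inter.intNum_eq_pair k hd', hJ, Curves1.RR.finrank_quotMod_pointIdeal,
    finrank_residueField_eq k π hπ hy₀ ?_] at hkey
  · have h0 := pair_pullback_exceptional k hdim hx hb hπ (isInvertible_idealMod hD)
    obtain ⟨e1⟩ := pullback_idealMod π hD hDc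
    obtain ⟨e2⟩ := idealMod_mul hD'c hEc
    rw [Inter.pair_congr k ⟨e1 ≪≫ eqToIso (congrArg ClSub.idealMod hD'eq) ≪≫ e2.symm⟩,
      Inter.pair_tensor k hd' (isInvertible_idealMod hD'c) (isInvertible_idealMod hEc)
        (isInvertible_idealMod hEc)] at h0
    rw [hkey] at h0
    omega
  · refine residueFieldMap_surjective_of π y₀ fun s => ?_
    obtain ⟨r, hr⟩ := hres₀ (q.stalkMap z₀ s)
    obtain ⟨U, hxU, t, rfl⟩ := TopCat.Presheaf.exists_germ_eq X.presheaf r
    refine ⟨U, hy₀ ▸ hxU, t, fun hu => hr ?_⟩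
    rw [hgerm z₀ U hxU (show π y₀ ∈ U from hy₀ ▸ hxU) t, ← map_sub]
    exact hu.map _

end Groth.PointBlowUp
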