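import Groth.Agent.PointBlowUp.SelfInt
import Groth.Agent.Inter.CartierH0
import Groth.Agent.Inter.NakaiCor

/-!
# Proper transforms of curves under the blow-up of a point
-/

set_option autoImplicit false
set_option backward.isDefEq.respectTransparency.types false
universe u

open CategoryTheory CategoryTheory.Limits AlgebraicGeometry TopologicalSpace IsLocalRing

namespace Groth.PointBlowUp

open Groth.Inter Groth.PicAux

variable (k : Type u) [Field k] {X : Scheme.{u}} [X.Over (Spec (CommRingCat.of k))]
  [IsProper (X ↘ Spec (CommRingCat.of k))] [IsIntegral X]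

include k in
/-- An integral curve on a regular surface is a divisor. -/
theorem isEffCartierIdeal_curve (hdim : topologicalKrullDim X = 2)
    (hreg : ∀ y : X, IsRegularLocalRing (X.presheaf.stalk y)) (C : X.IdealSheafData) [IsIntegral C.subscheme]
    (hC : topologicalKrullDim (C.support : Set X) = 1) : BlowUp.IsEffCartierIdeal C := by
  have := Inter.isNoetherian k (X := X)
  have hrange : Set.range C.subschemeι = (C.support : Set X) := C.range_subschemeι
  refine RefRank.EffCartierLocal.isEffCartierIdeal_of_isIntegral C ?_ fun y _ => ?_
  · set η := C.subschemeι (genericPoint C.subscheme)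
    have hcl : closure ({η} : Set X) = (C.support : Set X) := by
      rw [← hrange, ← C.subschemeι.isClosedEmbedding.isClosed_range.closure_eq]
      refine le_antisymm (closure_mono (Set.singleton_subset_iff.2 ⟨_, rfl⟩))
        (closure_minimal ?_ isClosed_closure)
      rintro _ ⟨v, rfl⟩
      exact specializes_iff_mem_closure.1 (((genericPoint_spec C.subscheme).specializes trivial).map
        C.subschemeι.continuous)
    have hh : Order.height η = 1 := by
      have h1 := Variety2.Dim.dim_closure_singleton η
      rw [hcl, hC] at h1
      exact (WithBot.coe_inj.1 h1).symm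
    have h2 := Variety2.Dim.ringKrullDim_stalk_add_height (X ↘ Spec (CommRingCat.of k)) η
    rw [hh, hdim] at h2
    obtain ⟨n, hn⟩ : ∃ n : ℕ∞, ringKrullDim (X.presheaf.stalk η) = (n : WithBot ℕ∞) :=
      ⟨_, ringKrullDim_stalk_eq_coheight η⟩
    rw [hn] at h2 ⊢
    have h3 : n + 1 = 2 := WithBot.coe_inj.1 h2
    have h4 : n = 1 := by
      cases n with
      | top => simp at h3
      | coe m =>
        obtain rfl : m = 1 := by
          have : m + 1 = 2 := by exact_mod_cast h3
          omega
        rfl
    rw [h4]; rfl
  · have := hreg y
    refine ⟨Groth.Ega4Algebra1.isDomain_of_isRegularLocalRing _, ?_⟩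
    rcases ((Duality.ringKrullDim_stalk_le y).trans hdim.le).lt_or_eq with hlt | heq
    · exact ufd_of_dim_le_one _ hlt
    · exact Groth.Surfaces.RegularTwo.ufd heq

omit [IsIntegral X] in
/-- Intersection numbers with a power. -/
theorem pair_mul_pow (hdim : topologicalKrullDim X ≤ (2 : ℕ)) {J E : X.IdealSheafData}
    (hJ : BlowUp.IsEffCartierIdeal J) (hE : BlowUp.IsEffCartierIdeal E) {B : X.Modules}
    (hB : PicF.IsInvertible B) (n : ℕ) :
    pair k (ClSub.idealMod (J * E ^ n)) B =
      pair k (ClSub.idealMod J) B + n * pair k (ClSub.idealMod E) B := by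
  induction n with
  | zero =>
    rw [pow_zero, mul_one]
    simp
  | succ n ih =>
    have h := Groth.Divisors.isEffCartierIdeal_mul hJ (Groth.Divisors.isEffCartierIdeal_pow hE n)
    rw [pow_succ, ← mul_assoc, ← pair_congr k (idealMod_mul h hE) B,
      pair_tensor k hdim (isInvertible_idealMod h) (isInvertible_idealMod hE) hB, ih]
    push_cast
    ring

end Groth.PointBlowUp
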