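import Groth.Agent.PointBlowUp.Global
import Groth.Agent.HTopHyper.BlowUpProper
import Groth.Agent.Inter.CartierH0
import Groth.Agent.Inter.PushFormula
import Groth.Agent.Variety2.DimScheme
import Groth.Agent.Duality.PnPushDepth
import Groth.Agent.RefRank.SmoothFittingFlat

/-!
# The blow-up of a regular proper surface in a closed point
-/

set_option autoImplicit false
set_option backward.isDefEq.respectTransparency.types false
universe u

open CategoryTheory CategoryTheory.Limits AlgebraicGeometry IsLocalRing TopologicalSpace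

namespace Groth.PointBlowUp

open Groth.BlowUpBasics Groth.Inter

variable (k : Type u) [Field k] {X X' : Scheme.{u}} [X.Over (Spec (CommRingCat.of k))]
  [IsProper (X ↘ Spec (CommRingCat.of k))]
  (hdim : ∀ Z ∈ irreducibleComponents (X : Type u), topologicalKrullDim Z = 2)
  {x : X} (hx : IsClosed ({x} : Set X)) {π : X' ⟶ X}
  (hb : BlowUp.IsBlowUp π (Scheme.IdealSheafData.vanishingIdeal ⟨{x}, hx⟩))

include hdim in
omit [X.Over (Spec (CommRingCat.of k))] [IsProper (X ↘ Spec (CommRingCat.of k))] in
theorem dim_le_two : topologicalKrullDim X ≤ (2 : ℕ) :=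
  RefRank.SmoothFittingFlat.dim_le_of_components fun T hT => (hdim T hT).le

include k hdim hx in
/-- The local ring of a closed point has dimension two. -/
theorem ringKrullDim_stalk_closedPoint : ringKrullDim (X.presheaf.stalk x) = 2 :=
  le_antisymm ((Duality.ringKrullDim_stalk_le x).trans (dim_le_two hdim))
    (le_ringKrullDim_stalk k (n := 2) hdim hx)

omit [X.Over (Spec (CommRingCat.of k))] [IsProper (X ↘ Spec (CommRingCat.of k))] in
theorem support_point : ((Scheme.IdealSheafData.vanishingIdeal (⟨{x}, hx⟩ : Closeds X)).support : Set X) = {x} :=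
  Scheme.IdealSheafData.coe_support_vanishingIdeal _

omit [X.Over (Spec (CommRingCat.of k))] [IsProper (X ↘ Spec (CommRingCat.of k))] in
theorem mem_support_exceptional (y : X') :
    y ∈ (BlowUp.exceptional π (Scheme.IdealSheafData.vanishingIdeal ⟨{x}, hx⟩)).support ↔ π y = x := by
  rw [BlowUp.exceptional, Scheme.IdealSheafData.support_comap]
  exact (Set.ext_iff.1 (support_point hx) (π y)).trans Set.mem_singleton_iff

include k hb in
theorem isProper_blowUp : IsProper π :=
  have := isNoetherian k (X := X)
  HTopHyper.isProper_of_isBlowUp hb fun U =>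
    have : IsNoetherianRing Γ(X, (U : X.Opens)) := IsLocallyNoetherian.component_noetherian U
    IsNoetherian.noetherian _

include k hb hdim in
/-- The blow-up is regular. -/
theorem isRegular_blowUp (hreg : ∀ y : X, IsRegularLocalRing (X.presheaf.stalk y)) (y : X') :
    IsRegularLocalRing (X'.presheaf.stalk y) := by
  by_cases hy : π y = x
  · have := hreg x
    obtain ⟨P, p, q, hp, hlift, hbij, -⟩ := exists_localModel hx hb
    obtain ⟨z, rfl⟩ := hlift y hy
    have := isRegularLocalRing_stalk (ringKrullDim_stalk_closedPoint k hdim hx) hp z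
    exact IsRegularLocalRing.of_ringEquiv (RingEquiv.ofBijective (q.stalkMap z).hom (hbij z)).symm
  · have := hreg (π y)
    have := Groth.Divisors.isIso_stalkMap_off hb y
      (fun h => hy ((Set.ext_iff.1 (support_point hx) (π y)).1 h))
    exact IsRegularLocalRing.of_ringEquiv (asIso (π.stalkMap y)).commRingCatIsoToRingEquiv

omit [X.Over (Spec (CommRingCat.of k))] [IsProper (X ↘ Spec (CommRingCat.of k))] in
include hb in
theorem eq_of_off {y y' : X'} (hy : π y ≠ x) (h : π y = π y') : y = y' := by
  have := Groth.Divisors.isIso_morphismRestrict_compl hb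
  have hs : ∀ z : X', π z = π y → π z ∉ (Scheme.IdealSheafData.vanishingIdeal
      (⟨{x}, hx⟩ : Closeds X)).support := fun z hz hmem =>
    hy (hz.symm.trans ((Set.ext_iff.1 (support_point hx) (π z)).1 hmem))
  let a₁ : (π ⁻¹ᵁ Groth.Divisors.complOpens (Scheme.IdealSheafData.vanishingIdeal
    (⟨{x}, hx⟩ : Closeds X)) : X'.Opens) := ⟨y, hs y rfl⟩
  let a₂ : (π ⁻¹ᵁ Groth.Divisors.complOpens (Scheme.IdealSheafData.vanishingIdeal
    (⟨{x}, hx⟩ : Closeds X)) : X'.Opens) := ⟨y', hs y' h.symm⟩
  exact congrArg Subtype.val
    ((π ∣_ Groth.Divisors.complOpens (Scheme.IdealSheafData.vanishingIdeal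
        (⟨{x}, hx⟩ : Closeds X))).isOpenEmbedding.injective
      (a₁ := a₁) (a₂ := a₂)
      (Subtype.ext (((morphismRestrict_base_coe π _ a₁).trans h).trans
        (morphismRestrict_base_coe π _ a₂).symm)))

include k hb hdim in
/-- Every component of the blow-up is a surface mapping birationally to a component. -/
theorem dim_component [X'.Over (Spec (CommRingCat.of k))]
    (hπ : π ≫ (X ↘ Spec (CommRingCat.of k)) = X' ↘ Spec (CommRingCat.of k))
    (Z : Set X') (hZ : Z ∈ irreducibleComponents (X' : Type u)) : topologicalKrullDim Z = 2 := by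
  have := isProper_blowUp k hx hb
  have : IsProper (X' ↘ Spec (CommRingCat.of k)) := hπ ▸ inferInstance
  obtain ⟨η, hη⟩ := QuasiSober.sober hZ.1 (isClosed_of_mem_irreducibleComponents Z hZ)
  have hmax : ∀ y : X', y ⤳ η → y = η := fun y hy => by
    refine (Specializes.antisymm hy ?_).eq
    rw [specializes_iff_mem_closure, hη.def]
    refine hZ.2 isIrreducible_singleton.closure ?_ (subset_closure rfl)
    rw [← hη.def]
    exact closure_minimal (Set.singleton_subset_iff.2 (specializes_iff_mem_closure.1 hy)) isClosed_closure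
  obtain ⟨hξmax, hξ⟩ := (Groth.Divisors.maximalPoints_bijOn hb).mapsTo hmax
  have hne : π η ≠ x := fun h => hξ ((Set.ext_iff.1 (support_point hx) (π η)).2 h)
  have hcomp : closure ({π η} : Set X) ∈ irreducibleComponents (X : Type u) := by
    refine ⟨isIrreducible_singleton.closure, fun T hT hle => ?_⟩
    obtain ⟨ζ, hζ⟩ := QuasiSober.sober hT.closure isClosed_closure
    have h1 : ζ = π η := hξmax ζ (hζ.specializes (subset_closure (hle (subset_closure rfl))))
    rw [← h1, hζ.def]
    exact subset_closure
  have hh : Order.height (π η) = 2 := by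
    have h1 := hdim _ hcomp
    rw [Variety2.Dim.dim_closure_singleton] at h1
    exact WithBot.coe_inj.1 h1
  obtain ⟨z, hz⟩ : ∃ z : π.fiber (π η), π.fiberι (π η) z = η := by
    have : η ∈ Set.range (π.fiberι (π η)) := by rw [Scheme.Hom.range_fiberι]; rfl
    exact this
  have hsub : Subsingleton (π.fiber (π η)) := ⟨fun a b => (π.fiberι (π η)).isEmbedding.injective (by
    have hmem : ∀ c, π (π.fiberι (π η) c) = π η := fun c => by
      have : π.fiberι (π η) c ∈ Set.range (π.fiberι (π η)) := ⟨c, rfl⟩
      rw [Scheme.Hom.range_fiberι] at this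
      exact this
    exact eq_of_off hx hb (fun h => hne ((hmem a).symm.trans h)) ((hmem a).trans (hmem b).symm))⟩
  have h0 : Order.height z = 0 := Order.height_eq_zero.2 fun c _ => (Subsingleton.elim z c).le
  have h2 := Variety2.Dim.height_fiber_add (f := X' ↘ Spec (CommRingCat.of k))
    (X ↘ Spec (CommRingCat.of k)) π hπ (π η) z
  rw [h0, hh, zero_add, hz] at h2
  rw [← hη.def, Variety2.Dim.dim_closure_singleton, ← h2]
  rfl

end Groth.PointBlowUp
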